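import Groth.Agent.MiscGeom97.ClosedDescent
import Groth.Agent.Agf.Quot
import Groth.Prelude.Def_Magnet

/-!
# Descent along covers: functors of equivariant maps, and representability of affine objects over a base
-/

set_option autoImplicit false
set_option linter.deprecated false
universe u

open CategoryTheory CategoryTheory.Limits MonoidalCategory CartesianMonoidalCategory AlgebraicGeometry Opposite
open Magnet

noncomputable section

namespace Groth.MagnetEtale

variable {S : Scheme.{u}}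

/-- A functor has unique descent along covers. -/
def HasDesc (F : (Over S)ᵒᵖ ⥤ Type u) : Prop :=
  ∀ ⦃T T' : Over S⦄ (e : T' ⟶ T), Groth.Pi1Desc.IsCover e.left → ∀ φ' : F.obj (op T'),
    (∀ (T'' : Over S) (g₁ g₂ : T'' ⟶ T'), g₁ ≫ e = g₂ ≫ e → F.map g₁.op φ' = F.map g₂.op φ') →
      ∃! φ, F.map e.op φ = φ'

theorem hasDesc_eqvHom {A B X : Over S} [MonObj A] (ρ : MonAct A B) (a : MonAct A X) :
    HasDesc (MonAct.eqvHom ρ a) := by
  intro T T' e he φ' hφ'
  have sq : IsPullback (B ◁ e).left (snd B T').left (snd B T).left e.left :=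
    (Groth.Agf.isPullback_whiskerLeft_snd B e).map (Over.forget S)
  have := he
  have hB : Groth.Pi1Desc.IsCover (B ◁ e).left := Groth.Pi1Desc.IsCover.of_isPullback (p := e.left) sq.flip
  have := Groth.Pi1Desc.IsCover.effectiveEpi (B ◁ e).left
  have : Epi (B ◁ e) := Over.epi_of_epi_left _
  obtain ⟨χ, hχ⟩ : ∃ χ : B ⊗ T ⟶ X, (B ◁ e) ≫ χ = φ'.1 := by
    have hc : ∀ {W : Scheme.{u}} (p q : W ⟶ (B ⊗ T').left), p ≫ (B ◁ e).left = q ≫ (B ◁ e).left →
        p ≫ φ'.1.left = q ≫ φ'.1.left := by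
      intro W p q h
      have hp : p ≫ (B ⊗ T').hom = q ≫ (B ⊗ T').hom := by
        rw [← Over.w (B ◁ e), ← Category.assoc, h, Category.assoc]
      let p₀ : Over.mk (p ≫ (B ⊗ T').hom) ⟶ B ⊗ T' := Over.homMk p rfl
      let q₀ : Over.mk (p ≫ (B ⊗ T').hom) ⟶ B ⊗ T' := Over.homMk q hp.symm
      have h₀ : p₀ ≫ (B ◁ e) = q₀ ≫ (B ◁ e) := Over.OverMorphism.ext h
      have h1 := congrArg (· ≫ fst B T) h₀
      have h2 := congrArg (· ≫ snd B T) h₀
      simp only [Category.assoc, whiskerLeft_fst, whiskerLeft_snd] at h1 h2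
      have key : (B ◁ (p₀ ≫ snd B T')) ≫ φ'.1 = (B ◁ (q₀ ≫ snd B T')) ≫ φ'.1 :=
        congrArg Subtype.val (hφ' _ (p₀ ≫ snd B T') (q₀ ≫ snd B T')
          (by simpa only [Category.assoc] using h2))
      have e2 : ∀ r : Over.mk (p ≫ (B ⊗ T').hom) ⟶ B ⊗ T',
          r = lift (r ≫ fst _ _) (𝟙 _) ≫ (B ◁ (r ≫ snd _ _)) :=
        fun r => by rw [lift_whiskerLeft, Category.id_comp, lift_comp_fst_snd]
      have : p₀ ≫ φ'.1 = q₀ ≫ φ'.1 := by
        rw [e2 p₀, e2 q₀, h1, Category.assoc, Category.assoc, key]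
      exact congrArg CommaMorphism.left this
    have hfac := EffectiveEpi.fac (B ◁ e).left φ'.1.left (fun {W} (p q : W ⟶ (B ⊗ T').left) h => hc p q h)
    generalize EffectiveEpi.desc (B ◁ e).left φ'.1.left (fun {W} (p q : W ⟶ (B ⊗ T').left) h => hc p q h) = c at hfac
    refine ⟨Over.homMk c ?_, Over.OverMorphism.ext hfac⟩
    rw [← cancel_epi (B ◁ e).left, ← Category.assoc, hfac, Over.w, Over.w]
  have hE : MonAct.IsEquivariant (ρ.prod (MonAct.trivial A T)) a χ := by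
    have sq2 : IsPullback (A ◁ (B ◁ e)).left (snd A (B ⊗ T')).left (snd A (B ⊗ T)).left (B ◁ e).left :=
      (Groth.Agf.isPullback_whiskerLeft_snd A (B ◁ e)).map (Over.forget S)
    have hA : Groth.Pi1Desc.IsCover (A ◁ (B ◁ e)).left :=
      Groth.Pi1Desc.IsCover.of_isPullback (p := (B ◁ e).left) sq2.flip
    have := Groth.Pi1Desc.IsCover.effectiveEpi (A ◁ (B ◁ e)).left
    have : Epi (A ◁ (B ◁ e)) := Over.epi_of_epi_left _
    have h' := φ'.2
    unfold MonAct.IsEquivariant at h' ⊢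
    rw [← cancel_epi (A ◁ (B ◁ e)), ← MonAct.prod_trivial_act_whiskerLeft_assoc, hχ, ← whiskerLeft_comp_assoc,
      hχ]
    exact h'
  refine ⟨⟨χ, hE⟩, Subtype.ext hχ, fun ψ hψ => Subtype.ext ?_⟩
  rw [← cancel_epi (B ◁ e), hχ]
  exact congrArg Subtype.val hψ

theorem HasDesc.injective {F : (Over S)ᵒᵖ ⥤ Type u} (hF : HasDesc F) {T T' : Over S} (e : T' ⟶ T)
    (he : Groth.Pi1Desc.IsCover e.left) {φ₁ φ₂ : F.obj (op T)} (h : F.map e.op φ₁ = F.map e.op φ₂) : φ₁ = φ₂ := by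
  refine (hF e he (F.map e.op φ₂) fun T'' g₁ g₂ hg => ?_).unique h rfl
  rw [← FunctorToTypes.map_comp_apply, ← FunctorToTypes.map_comp_apply, ← op_comp, ← op_comp, hg]

open Groth.EtaleBase in
/-- Being affine may be checked after base change along a cover. -/
theorem isAffineHom_of_isPullback {X Y Z B : Scheme.{u}} {q : Y ⟶ Z} {i : Y ⟶ X} {j : Z ⟶ B} {p : X ⟶ B}
    [Groth.Pi1Desc.IsCover p] (sq : IsPullback q i j p) [IsAffineHom i] : IsAffineHom j := by
  refine IsZariskiLocalAtTarget.of_iSup_eq_top (P := @IsAffineHom) (fun O : B.affineOpens => O.1)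
    (iSup_affineOpens_eq_top B) fun O => ?_
  obtain ⟨X', f, _, hfl, hsu, hqc⟩ := Groth.Pi1Desc.exists_affine_over p O.2
  refine MorphismProperty.of_pullback_fst_of_descendsAlong (Q := (@Surjective ⊓ @Flat ⊓ @QuasiCompact :
    MorphismProperty Scheme.{u})) (f := f ≫ p ∣_ O.1) (g := j ∣_ O.1) ⟨⟨hsu, hfl⟩, hqc⟩ ?_
  let k : X' ⟶ X := f ≫ (p ⁻¹ᵁ O.1).ι
  have hk : (f ≫ p ∣_ O.1) ≫ O.1.ι = k ≫ p := by simp [k]
  have big := (IsPullback.of_hasPullback (f ≫ p ∣_ O.1) (j ∣_ O.1)).flip.paste_horiz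
    (isPullback_morphismRestrict j O.1).flip
  rw [hk] at big
  have hw : (pullback.snd (f ≫ p ∣_ O.1) (j ∣_ O.1) ≫ (j ⁻¹ᵁ O.1).ι) ≫ j =
      (pullback.fst (f ≫ p ∣_ O.1) (j ∣_ O.1) ≫ k) ≫ p := by
    rw [big.w]; simp [k]
  have top := IsPullback.of_right (h₁₁ := sq.lift _ _ hw) (h₁₂ := q) (v₁₂ := i) (h₂₁ := k) (h₂₂ := p)
    (v₁₁ := pullback.fst (f ≫ p ∣_ O.1) (j ∣_ O.1)) (v₁₃ := j)
    (by rw [sq.lift_fst]; exact big) (sq.lift_snd _ _ _) sq
  exact MorphismProperty.of_isPullback top ‹IsAffineHom i›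

set_option maxHeartbeats 1000000 in
/-- A functor over `Z` which becomes representable by an affine `Z'`-object along a cover `Z' ⟶ Z` is
representable by an affine `Z`-object. -/
theorem exists_representableBy_of_cover {F : (Over S)ᵒᵖ ⥤ Type u} (hF : HasDesc F) {Z Z' V : Over S}
    (π : F ⟶ yoneda.obj Z) (k : Z' ⟶ Z) [Groth.Pi1Desc.IsCover k.left] (w : V ⟶ Z') [IsAffineHom w.left]
    (φ₀ : F.obj (op V)) (hφ₀ : π.app (op V) φ₀ = w ≫ k)
    (huniv : ∀ (T : Over S) (φ : F.obj (op T)) (z' : T ⟶ Z'), π.app (op T) φ = z' ≫ k →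
      ∃! v : T ⟶ V, F.map v.op φ₀ = φ ∧ v ≫ w = z') :
    ∃ (ZN : Over S) (eN : F.RepresentableBy ZN) (j : ZN ⟶ Z), IsAffineHom j.left ∧
      ∀ (T : Over S) (z : T ⟶ ZN), π.app (op T) (eN.homEquiv z) = z ≫ j := by
  have hπ : ∀ {T T' : Over S} (g : T' ⟶ T) (φ : F.obj (op T)),
      π.app (op T') (F.map g.op φ) = g ≫ π.app (op T) φ := fun g φ =>
    ConcreteCategory.congr_hom (π.naturality g.op) φ
  have hπv : ∀ {T : Over S} (v : T ⟶ V), π.app (op T) (F.map v.op φ₀) = v ≫ w ≫ k := fun v => by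
    rw [hπ, hφ₀]
  -- moving a point of `V` over another point of `Z'`
  have hmv : ∀ {T : Over S} (v : T ⟶ V) (x : T ⟶ Z'), v ≫ w ≫ k = x ≫ k →
      ∃! v' : T ⟶ V, F.map v'.op φ₀ = F.map v.op φ₀ ∧ v' ≫ w = x := fun {T} v x h =>
    huniv T _ x ((hπv v).trans h)
  have mkEq : ∀ {T : Scheme.{u}} (v : T ⟶ V.left) (x : T ⟶ Z'.left), v ≫ w.left ≫ k.left = x ≫ k.left →
      x ≫ Z'.hom = v ≫ V.hom := fun v x h => by
    rw [← Over.w w, ← Over.w k, ← Category.assoc, ← h]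
    simp only [Category.assoc]
  let mv : ∀ {T : Scheme.{u}} (v : T ⟶ V.left) (x : T ⟶ Z'.left), v ≫ w.left ≫ k.left = x ≫ k.left →
      (Over.mk (v ≫ V.hom) ⟶ V) := fun {T} v x h =>
    (hmv (T := Over.mk (v ≫ V.hom)) (Over.homMk v rfl) (Over.homMk x (mkEq v x h))
      (Over.OverMorphism.ext h)).choose
  have mv_spec : ∀ {T : Over S} (v : T ⟶ V) (x : T ⟶ Z') (h : v ≫ w ≫ k = x ≫ k) (v' : T ⟶ V),
      F.map v'.op φ₀ = F.map v.op φ₀ → v' ≫ w = x →
      (mv v.left x.left (congrArg CommaMorphism.left h)).left = v'.left := by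
    intro T v x h v' h1 h2
    let g : Over.mk (v.left ≫ V.hom) ⟶ T := Over.homMk (𝟙 T.left) ((Category.id_comp _).trans (Over.w v).symm)
    obtain ⟨hs1, hs2⟩ := (hmv (T := Over.mk (v.left ≫ V.hom)) (Over.homMk v.left rfl)
      (Over.homMk x.left (mkEq v.left x.left (congrArg CommaMorphism.left h)))
      (Over.OverMorphism.ext (congrArg CommaMorphism.left h : v.left ≫ w.left ≫ k.left = x.left ≫ k.left))).choose_spec.1
    have ev : (Over.homMk v.left rfl : Over.mk (v.left ≫ V.hom) ⟶ V) = g ≫ v :=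
      Over.OverMorphism.ext (Category.id_comp v.left).symm
    have e := (hmv (g ≫ v) (g ≫ x) (by simp only [Category.assoc, h])).unique
      (y₁ := mv v.left x.left (congrArg CommaMorphism.left h)) (y₂ := g ≫ v')
      ⟨hs1.trans (by rw [ev]), hs2.trans (Over.OverMorphism.ext (Category.id_comp x.left).symm)⟩
      ⟨by simp only [op_comp, FunctorToTypes.map_comp_apply, h1], by rw [Category.assoc, h2]⟩
    rw [e]
    exact Category.id_comp v'.left
  let A : Groth.Pi1Desc.Act w.left k.left :=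
    { act := fun v x h => (mv v x h).left
      act_hom := fun {T} v x h => by
        exact congrArg CommaMorphism.left
          (hmv (T := Over.mk (v ≫ V.hom)) (Over.homMk v rfl) (Over.homMk x (mkEq v x h))
            (Over.OverMorphism.ext h)).choose_spec.1.2
      act_self := fun {T} v x h hx =>
        mv_spec (T := Over.mk (v ≫ V.hom)) (Over.homMk v rfl) (Over.homMk x (mkEq v x h))
          (Over.OverMorphism.ext h) (Over.homMk v rfl) rfl (Over.OverMorphism.ext hx)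
      act_act := fun {T} v x y h h' h'' => by
        let T₀ : Over S := Over.mk (v ≫ V.hom)
        let v₀ : T₀ ⟶ V := Over.homMk v rfl
        let y₀ : T₀ ⟶ Z' := Over.homMk y (mkEq v y h')
        let v₁ : T₀ ⟶ V := mv v x h
        obtain ⟨h1, -⟩ := (hmv v₀ (Over.homMk x (mkEq v x h)) (Over.OverMorphism.ext h)).choose_spec.1
        obtain ⟨u', ⟨hu1, hu2⟩, -⟩ := hmv v₀ y₀ (Over.OverMorphism.ext h')
        have h'₁ : v₁ ≫ w ≫ k = y₀ ≫ k := Over.OverMorphism.ext h''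
        exact (mv_spec v₁ y₀ h'₁ u' (hu1.trans h1.symm) hu2).trans
          (mv_spec v₀ y₀ (Over.OverMorphism.ext h') u' hu1 hu2).symm
      act_comp := fun {T T'} g v x h h' => by
        let T₀ : Over S := Over.mk (v ≫ V.hom)
        let g₀ : Over.mk ((g ≫ v) ≫ V.hom) ⟶ T₀ := Over.homMk g (Category.assoc g v V.hom).symm
        obtain ⟨h1, h2⟩ := (hmv (T := T₀) (Over.homMk v rfl) (Over.homMk x (mkEq v x h))
          (Over.OverMorphism.ext h)).choose_spec.1
        refine (mv_spec (T := Over.mk ((g ≫ v) ≫ V.hom)) (Over.homMk (g ≫ v) rfl)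
          (Over.homMk (g ≫ x) (mkEq _ _ h')) (Over.OverMorphism.ext h') (g₀ ≫ mv v x h) ?_ ?_).trans rfl
        · rw [op_comp, FunctorToTypes.map_comp_apply, h1, ← FunctorToTypes.map_comp_apply, ← op_comp]
          congr 3
        · exact (Category.assoc _ _ _).trans ((congrArg (g₀ ≫ ·) h2).trans (Over.OverMorphism.ext rfl)) }
  obtain ⟨U₁, π₁, q, hpb, hcompat⟩ := A.eff_of_isAffineHom_of_isCover
  have hqc : Groth.Pi1Desc.IsCover q := Groth.Pi1Desc.IsCover.of_isPullback (p := k.left) hpb.flip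
  let ZN : Over S := Over.mk (π₁ ≫ Z.hom)
  let j : ZN ⟶ Z := Over.homMk π₁ rfl
  let q₀ : V ⟶ ZN := Over.homMk q (by
    show q ≫ π₁ ≫ Z.hom = V.hom
    rw [← Category.assoc, hpb.w, Category.assoc, Over.w k, Over.w w])
  have hq₀ : Groth.Pi1Desc.IsCover q₀.left := hqc
  have hqj : q₀ ≫ j = w ≫ k := Over.OverMorphism.ext hpb.w
  -- two points of `V` with the same image in `F` have the same image in `ZN`
  have hsame : ∀ {T : Over S} (v₁ v₂ : T ⟶ V), F.map v₁.op φ₀ = F.map v₂.op φ₀ → v₁ ≫ q₀ = v₂ ≫ q₀ := by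
    intro T v₁ v₂ h12
    have h : v₁ ≫ w ≫ k = (v₂ ≫ w) ≫ k := by
      rw [Category.assoc, ← hπv v₁, ← hπv v₂, h12]
    refine Over.OverMorphism.ext ?_
    have := hcompat T.left v₁.left (v₂ ≫ w).left (congrArg CommaMorphism.left h)
    exact (((congrArg (· ≫ q) (mv_spec v₁ (v₂ ≫ w) h v₂ h12.symm rfl)).symm).trans this).symm
  have hsame' : ∀ {T : Over S} (g₁ g₂ : T ⟶ V), g₁ ≫ q₀ = g₂ ≫ q₀ → F.map g₁.op φ₀ = F.map g₂.op φ₀ := by
    intro T g₁ g₂ hg
    have h : g₁ ≫ w ≫ k = (g₂ ≫ w) ≫ k := by rw [Category.assoc, ← hqj, reassoc_of% hg]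
    obtain ⟨v', ⟨hv1, hv2⟩, -⟩ := hmv g₁ (g₂ ≫ w) h
    have e1 := mv_spec g₁ (g₂ ≫ w) h v' hv1 hv2
    have hv : v' = g₂ := by
      refine Over.OverMorphism.ext (hpb.hom_ext ?_ (congrArg CommaMorphism.left hv2))
      rw [← e1]
      exact (hcompat T.left g₁.left (g₂ ≫ w).left (congrArg CommaMorphism.left h)).trans
        (congrArg CommaMorphism.left hg)
    rw [← hv1, hv]
  obtain ⟨ψ, hψ, -⟩ := hF q₀ hq₀ φ₀ fun T g₁ g₂ hg => hsame' g₁ g₂ hg
  have hψπ : π.app (op ZN) ψ = j := by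
    have := Groth.Pi1Desc.IsCover.effectiveEpi q₀.left
    have : Epi q₀ := Over.epi_of_epi_left _
    rw [← cancel_epi q₀, hqj, ← hφ₀, ← hψ, hπ]
  have hzπ : ∀ {T : Over S} (z : T ⟶ ZN), π.app (op T) (F.map z.op ψ) = z ≫ j := fun z => by
    rw [hπ, hψπ]
  -- covers of test objects
  have hcov : ∀ {T : Over S} (b : T ⟶ Z), ∃ (T' : Over S) (e : T' ⟶ T) (x' : T' ⟶ Z'),
      Groth.Pi1Desc.IsCover e.left ∧ e ≫ b = x' ≫ k := by
    intro T b
    let T' : Over S := Over.mk (pullback.fst b.left k.left ≫ T.hom)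
    refine ⟨T', Over.homMk (pullback.fst b.left k.left) rfl, Over.homMk (pullback.snd b.left k.left) ?_, ?_,
      Over.OverMorphism.ext pullback.condition⟩
    · show pullback.snd b.left k.left ≫ Z'.hom = pullback.fst b.left k.left ≫ T.hom
      rw [← Over.w k, ← Over.w b, ← Category.assoc, ← Category.assoc, pullback.condition]
    · exact Groth.Pi1Desc.IsCover.of_isPullback (p := k.left) (IsPullback.of_hasPullback b.left k.left).flip
  have hbij : ∀ T : Over S, Function.Bijective fun z : T ⟶ ZN => F.map z.op ψ := by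
    intro T
    constructor
    · intro z₁ z₂ (h : F.map z₁.op ψ = F.map z₂.op ψ)
      have hj : z₁ ≫ j = z₂ ≫ j := by rw [← hzπ, ← hzπ, h]
      obtain ⟨T', e, x', he, hex⟩ := hcov (z₁ ≫ j)
      have := Groth.Pi1Desc.IsCover.effectiveEpi e.left
      have : Epi e := Over.epi_of_epi_left _
      have lift_exists : ∀ z : T ⟶ ZN, z ≫ j = z₁ ≫ j → ∃ v : T' ⟶ V, v ≫ q₀ = e ≫ z ∧ v ≫ w = x' := by
        intro z hz
        have hc : (e ≫ z).left ≫ π₁ = x'.left ≫ k.left := by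
          refine congrArg CommaMorphism.left (?_ : (e ≫ z) ≫ j = x' ≫ k)
          rw [Category.assoc, hz, hex]
        refine ⟨Over.homMk (hpb.lift _ _ hc) ?_, Over.OverMorphism.ext (hpb.lift_fst _ _ _),
          Over.OverMorphism.ext (hpb.lift_snd _ _ _)⟩
        rw [← Over.w w, ← Category.assoc, hpb.lift_snd, Over.w x']
      obtain ⟨v₁, hv₁, hv₁'⟩ := lift_exists z₁ rfl
      obtain ⟨v₂, hv₂, hv₂'⟩ := lift_exists z₂ hj.symm
      have e12 : F.map v₁.op φ₀ = F.map v₂.op φ₀ := by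
        rw [← hψ, ← FunctorToTypes.map_comp_apply, ← FunctorToTypes.map_comp_apply, ← op_comp, ← op_comp,
          hv₁, hv₂, op_comp, op_comp, FunctorToTypes.map_comp_apply, FunctorToTypes.map_comp_apply, h]
      have hvv : v₁ = v₂ := (hmv v₁ x' (by rw [← Category.assoc, hv₁'])).unique ⟨rfl, hv₁'⟩ ⟨e12.symm, hv₂'⟩
      rw [← cancel_epi e, ← hv₁, ← hv₂, hvv]
    · intro φ
      obtain ⟨T', e, x', he, hex⟩ := hcov (T := T) (π.app (op T) φ)
      obtain ⟨v, ⟨hv1, hv2⟩, -⟩ := huniv T' (F.map e.op φ) x' (by rw [hπ, hex])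
      have := he
      have := Groth.Pi1Desc.IsCover.effectiveEpi e.left
      have : Epi e := Over.epi_of_epi_left _
      have hd : ∀ {W : Scheme.{u}} (g₁ g₂ : W ⟶ T'.left), g₁ ≫ e.left = g₂ ≫ e.left →
          g₁ ≫ (v ≫ q₀).left = g₂ ≫ (v ≫ q₀).left := by
        intro W g₁ g₂ hg
        let a₁ : Over.mk (g₁ ≫ T'.hom) ⟶ T' := Over.homMk g₁ rfl
        let a₂ : Over.mk (g₁ ≫ T'.hom) ⟶ T' := Over.homMk g₂ (by
          show g₂ ≫ T'.hom = g₁ ≫ T'.hom
          rw [← Over.w e, ← Category.assoc, ← hg, Category.assoc])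
        have ha : a₁ ≫ e = a₂ ≫ e := Over.OverMorphism.ext hg
        have := hsame (a₁ ≫ v) (a₂ ≫ v) (by
          rw [op_comp, op_comp, FunctorToTypes.map_comp_apply, FunctorToTypes.map_comp_apply, hv1,
            ← FunctorToTypes.map_comp_apply, ← FunctorToTypes.map_comp_apply, ← op_comp, ← op_comp, ha])
        simp only [Category.assoc] at this
        exact congrArg CommaMorphism.left this
      have hfac := EffectiveEpi.fac e.left (v ≫ q₀).left (fun {W} (g₁ g₂ : W ⟶ T'.left) hg => hd g₁ g₂ hg)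
      generalize EffectiveEpi.desc e.left (v ≫ q₀).left (fun {W} (g₁ g₂ : W ⟶ T'.left) hg => hd g₁ g₂ hg) = c at hfac
      let z : T ⟶ ZN := Over.homMk c (by
        rw [← cancel_epi e.left, ← Category.assoc, hfac, Over.w, Over.w])
      have hz : e ≫ z = v ≫ q₀ := Over.OverMorphism.ext hfac
      refine ⟨z, hF.injective e he ?_⟩
      show F.map e.op (F.map z.op ψ) = _
      rw [← FunctorToTypes.map_comp_apply, ← op_comp, hz, op_comp, FunctorToTypes.map_comp_apply, hψ, hv1]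
  refine ⟨ZN, { homEquiv := fun {T} => Equiv.ofBijective _ (hbij T), homEquiv_comp := fun {T T'} g z => ?_ }, j,
    isAffineHom_of_isPullback hpb, fun T z => hzπ z⟩
  show F.map (g ≫ z).op ψ = F.map g.op (F.map z.op ψ)
  rw [op_comp, FunctorToTypes.map_comp_apply]

end Groth.MagnetEtale
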