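import Groth.Agent.MagnetEtale.Trunc
import Groth.Agent.MiscGeom.MagnetGrading

/-!
# Equivariance on `Spec A[N]` and on its truncations
-/

set_option autoImplicit false
universe u

open CategoryTheory CategoryTheory.Limits MonoidalCategory CartesianMonoidalCategory MonObj AlgebraicGeometry Opposite
open Magnet Groth.MiscGeom.Mag

noncomputable section

namespace Groth.MagnetEtale

variable {S : Scheme.{u}} {M : Type} [AddCommMonoid M] (N : AddSubmonoid M) {A : CommRingCat.{u}}
  (str : Spec A ⟶ S) {X : Over S} (a : MonAct (AMonS S M) X)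

/-- `Spec A[N] → S` -/
abbrev strN : Spec (MA A N) ⟶ S := Spec.map (maConst A N) ≫ str

/-- the coaction as a map over `S` -/
def coW : spMA (strN N str) M ⟶ spMA str N :=
  Over.homMk (Spec.map (maCo A N.subtype)) (by
    show Spec.map _ ≫ Spec.map (maConst A N) ≫ str = Spec.map (maConst _ M) ≫ Spec.map (maConst A N) ≫ str
    exact (Spec.map_comp_assoc _ _ _).symm.trans ((congrArg (fun q => Spec.map q ≫ str)
      (maConst_maCo A N.subtype)).trans (Spec.map_comp_assoc _ _ _)))

set_option maxHeartbeats 1000000 in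
theorem act_coW :
    (specMAIso (strN N str) M).hom ≫ (AMonS S M ◁ (specMAIso str N).hom) ≫
      ((subAct S M N).prod (MonAct.trivial (AMonS S M) (Over.mk str))).act = coW N str ≫ (specMAIso str N).hom := by
  let u0 := specMAIso str N
  let u1 := specMAIso (strN N str) M
  let p1 := u1.hom ≫ fst _ _
  let t1 := u1.hom ≫ snd _ _
  let p0 := u0.hom ≫ fst _ _
  let t0 := u0.hom ≫ snd _ _
  have ht1 : t1.left = Spec.map (maConst (MA A N) M) := specMA_snd (strN N str) M
  have ht0 : t0.left = Spec.map (maConst A N) := specMA_snd str N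
  have hl : coW N str ≫ u0.hom = lift ((p1 ≫ AMonS.map S N.subtype) * (t1 ≫ p0)) (t1 ≫ t0) := by
    refine specMAIso_lift str (maCo A N.subtype) (𝟙 _) (coW N str) (Category.id_comp _).symm _ _ ?_ fun m => ?_
    · rw [Over.comp_left, ht1, ht0]
      exact (Spec.map_comp _ _).symm.trans ((congrArg Spec.map (maConst_maCo A N.subtype).symm).trans
        (Category.id_comp _).symm)
    · rw [pv_mul, pv_map, pv_comp t1 p0, maCo_single]
      have q1 : pv p1 (AddMonoidHom.toMultiplicative N.subtype m) = (Scheme.ΓSpecIso (MA (MA A N) M)).inv.hom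
          (MonoidAlgebra.single (AddMonoidHom.toMultiplicative N.subtype m) 1) :=
        pv_specMAIso (A := MA A N) (strN N str) _
      have q0 : pv p0 m = (Scheme.ΓSpecIso (MA A N)).inv.hom (MonoidAlgebra.single m 1) :=
        pv_specMAIso (A := A) str m
      have q2 : (Spec.map (maConst (MA A N) M)).appTop.hom
          ((Scheme.ΓSpecIso (MA A N)).inv.hom (MonoidAlgebra.single m 1)) =
          (Scheme.ΓSpecIso (MA (MA A N) M)).inv.hom
            ((maConst (MA A N) M).hom (MonoidAlgebra.single m 1)) :=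
        (ConcreteCategory.congr_hom (Scheme.ΓSpecIso_inv_naturality (maConst (MA A N) M))
          (MonoidAlgebra.single m 1)).symm
      rw [q1, q0, ht1]
      erw [q2, ← map_mul]
      rw [Scheme.Hom.id_appTop]
      show _ = (Scheme.ΓSpecIso _).inv.hom _
      congr 1
      simp [maConst, MonoidAlgebra.single_mul_single]
  have e1 : u1.hom = lift p1 t1 := (lift_comp_fst_snd _).symm
  have e0 : t1 ≫ u0.hom = lift (t1 ≫ p0) (t1 ≫ t0) := by
    rw [← comp_lift]
    exact congrArg (t1 ≫ ·) (lift_comp_fst_snd _).symm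
  change u1.hom ≫ _ = coW N str ≫ u0.hom
  rw [hl, e1, lift_whiskerLeft_assoc, e0, MonAct.lift_prod_act, MonAct.lift_trivial_act, subAct,
    MonAct.lift_restrict_act, MonAct.lift_regular_act]

/-- Equivariance of a map out of `A(N) × Spec A` on `Spec A[N]`. -/
theorem isEquivariant_iff_coW (y : spMA str N ⟶ X) :
    MonAct.IsEquivariant ((subAct S M N).prod (MonAct.trivial (AMonS S M) (Over.mk str))) a
        ((specMAIso str N).inv ≫ y) ↔
      (specMA (strN N str) M).hom ≫ ((AMonS S M ◁ y) ≫ a.act).left = Spec.map (maCo A N.subtype) ≫ y.left := by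
  unfold MonAct.IsEquivariant
  rw [← cancel_epi (AMonS S M ◁ (specMAIso str N).hom), ← cancel_epi (specMAIso (strN N str) M).hom,
    reassoc_of% (act_coW N str), ← whiskerLeft_comp_assoc, Iso.hom_inv_id_assoc, eq_comm]
  exact ⟨fun h => congrArg CommaMorphism.left h, fun h => Over.OverMorphism.ext h⟩

variable (ε : N →+ ℕ)

/-- the structure map of a truncation -/
abbrev trStr (k : ℕ) : Spec (trR A ε k) ⟶ S := Spec.map (trMk A ε k) ≫ strN N str

/-- a truncation in `Spec A[N]` -/
def trIncl (k : ℕ) : Over.mk (trStr N str ε k) ⟶ spMA str N := Over.homMk (Spec.map (trMk A ε k)) rfl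

/-- transition -/
def trNext (k : ℕ) : Over.mk (trStr N str ε k) ⟶ Over.mk (trStr N str ε (k + 1)) :=
  Over.homMk (Spec.map (trStep A ε k)) (by
    show Spec.map _ ≫ Spec.map _ ≫ strN N str = Spec.map _ ≫ strN N str
    rw [← Spec.map_comp_assoc, trMk_trStep])

theorem trNext_trIncl (k : ℕ) : trNext N str ε k ≫ trIncl N str ε (k + 1) = trIncl N str ε k :=
  Over.OverMorphism.ext ((Spec.map_comp _ _).symm.trans (congrArg Spec.map (trMk_trStep A ε k)))

/-- Equivariance on a truncation. -/
def EqK (k : ℕ) (ψ : Over.mk (trStr N str ε k) ⟶ X) : Prop :=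
  (specMA (trStr N str ε k) M).hom ≫ ((AMonS S M ◁ ψ) ≫ a.act).left = Spec.map (trCo A ε N.subtype k) ≫ ψ.left

theorem eqK_trIncl {y : spMA str N ⟶ X}
    (h : MonAct.IsEquivariant ((subAct S M N).prod (MonAct.trivial (AMonS S M) (Over.mk str))) a
        ((specMAIso str N).inv ≫ y)) (k : ℕ) : EqK N str a ε k (trIncl N str ε k ≫ y) := by
  rw [isEquivariant_iff_coW] at h
  unfold EqK
  rw [whiskerLeft_comp, Category.assoc, Over.comp_left, ← Category.assoc,
    specMA_whiskerLeft' (strN N str) (trStr N str ε k) (trMk A ε k) (trIncl N str ε k) rfl, Category.assoc, h,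
    Over.comp_left, ← Spec.map_comp_assoc, ← trMk_trCo A ε N.subtype k, Spec.map_comp_assoc]
  rfl

theorem EqK.next {k : ℕ} {ψ : Over.mk (trStr N str ε (k + 1)) ⟶ X} (h : EqK N str a ε (k + 1) ψ) :
    EqK N str a ε k (trNext N str ε k ≫ ψ) := by
  unfold EqK at h ⊢
  rw [whiskerLeft_comp, Category.assoc, Over.comp_left, ← Category.assoc,
    specMA_whiskerLeft' (trStr N str ε (k + 1)) (trStr N str ε k) (trStep A ε k) (trNext N str ε k) rfl,
    Category.assoc, h, Over.comp_left, ← Spec.map_comp_assoc, ← trStep_trCo A ε N.subtype k, Spec.map_comp_assoc]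
  rfl

variable [IsAffineHom X.hom]

theorem gGam_coact {C : CommRingCat.{u}} (φ : gB str X ⟶ C) (c : A ⟶ C) (hc : gGam str X ≫ φ = c) :
    gGam str X ≫ gDelta str a ≫ maBase φ M = c ≫ maConst C M := by
  rw [reassoc_of% (gGam_gDelta str a), maConst_maBase, reassoc_of% hc]

/-- Equivariance on a truncation, in rings. -/
theorem eqK_iff_ring {k : ℕ} {ψ : Over.mk (trStr N str ε k) ⟶ X} (τ : gB str X ⟶ trR A ε k)
    (hc : gGam str X ≫ τ = maConst A N ≫ trMk A ε k) (hτ : Spec.map τ ≫ (gX0 str X).left = ψ.left) :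
    EqK N str a ε k ψ ↔ gDelta str a ≫ maBase τ M = τ ≫ trCo A ε N.subtype k := by
  unfold EqK
  rw [orbit_eq str a (trStr N str ε k) τ ψ hτ.symm, ← hτ, ← Spec.map_comp_assoc (τ)]
  refine ⟨fun h => gHom_ext str X ?_ h, fun h => by rw [h]⟩
  rw [gGam_coact str a τ _ hc, reassoc_of% hc, trMk_trCo, reassoc_of% (maConst_maCo A N.subtype), Category.assoc]
  exact congrArg (maConst A N ≫ ·) (maConst_maBase (trMk A ε k) M).symm

/-- Equivariance on `Spec A[N]`, in rings. -/
theorem isEquivariant_of_ring {y : spMA str N ⟶ X} (τ : gB str X ⟶ MA A N) (hτ : Spec.map τ ≫ (gX0 str X).left = y.left)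
    (h : gDelta str a ≫ maBase τ M = τ ≫ maCo A N.subtype) :
    MonAct.IsEquivariant ((subAct S M N).prod (MonAct.trivial (AMonS S M) (Over.mk str))) a
        ((specMAIso str N).inv ≫ y) := by
  rw [isEquivariant_iff_coW, orbit_eq str a (strN N str) τ y hτ.symm, ← hτ, h, Spec.map_comp_assoc]

end Groth.MagnetEtale
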