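import Groth.Agent.MagnetEtale.Coact
import Mathlib.AlgebraicGeometry.Morphisms.Immersion
import Mathlib.RingTheory.Filtration
import Mathlib.RingTheory.Localization.FractionRing
import Mathlib.RingTheory.Polynomial.Basic

/-!
# Equivariant maps out of `Spec A[N]` agreeing on all truncations agree
-/

set_option autoImplicit false
universe u

open CategoryTheory CategoryTheory.Limits MonoidalCategory CartesianMonoidalCategory MonObj AlgebraicGeometry Opposite
open Magnet Groth.MiscGeom.Mag

noncomputable section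

namespace Groth.MagnetEtale

set_option backward.isDefEq.respectTransparency false in
theorem isImmersion_equalizer_ι_left {S : Scheme.{u}} {X Y : Over S} (f g : X ⟶ Y) :
    IsImmersion (equalizer.ι f g).left := by
  refine MorphismProperty.of_isPullback
    ((Limits.isPullback_equalizer_prod f g).map (Over.forget _)).flip ?_
  rw [← MorphismProperty.cancel_right_of_respectsIso @IsImmersion _
    (Over.prodLeftIsoPullback Y Y).hom]
  convert! (inferInstance : IsImmersion (pullback.diagonal Y.hom))
  ext1 <;> simp [← Over.comp_left]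

theorem exists_preimage_affine {X : Scheme.{u}} {V : X.Opens} (hV : IsAffineOpen V) {R : CommRingCat.{u}}
    (a : Spec R ⟶ X) (ha : ∀ p, a p ∈ V) : ∃ α : Γ(X, V) ⟶ R, Spec.map α ≫ hV.fromSpec = a :=
  ⟨Spec.preimage (IsOpenImmersion.lift hV.fromSpec a (by rw [hV.range_fromSpec]; rintro _ ⟨p, rfl⟩; exact ha p)),
    by rw [Spec.map_preimage, IsOpenImmersion.lift_fac]⟩

/-- Maps from a noetherian local spectrum agreeing modulo all powers of the maximal ideal agree. -/
theorem eq_of_adic {X : Scheme.{u}} {O : CommRingCat.{u}} [IsLocalRing O] [IsNoetherianRing O]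
    (a b : Spec O ⟶ X)
    (h : ∀ k, Spec.map (CommRingCat.ofHom (Ideal.Quotient.mk (IsLocalRing.maximalIdeal O ^ k))) ≫ a =
      Spec.map (CommRingCat.ofHom (Ideal.Quotient.mk (IsLocalRing.maximalIdeal O ^ k))) ≫ b) : a = b := by
  let m := IsLocalRing.maximalIdeal O
  have hcl : a (IsLocalRing.closedPoint O) = b (IsLocalRing.closedPoint O) := by
    haveI : Nontrivial (O ⧸ m ^ 1) := Ideal.Quotient.nontrivial_iff.mpr
      (by rw [pow_one]; exact Ideal.IsMaximal.ne_top inferInstance)
    obtain ⟨q⟩ := (inferInstance : Nonempty (PrimeSpectrum (O ⧸ m ^ 1)))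
    have hq : Spec.map (CommRingCat.ofHom (Ideal.Quotient.mk (m ^ 1))) q = IsLocalRing.closedPoint O := by
      have hle : m ≤ Ideal.comap (Ideal.Quotient.mk (m ^ 1)) q.asIdeal := fun x hx => by
        rw [Ideal.mem_comap, Ideal.Quotient.eq_zero_iff_mem.mpr (by rwa [pow_one])]
        exact q.asIdeal.zero_mem
      have heq := (IsLocalRing.maximalIdeal.isMaximal O).eq_of_le (Ideal.IsPrime.ne_top inferInstance) hle
      exact PrimeSpectrum.ext heq.symm
    have := congrArg (fun z => z q) (h 1)
    simp only [Scheme.Hom.comp_apply] at this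
    rwa [hq] at this
  obtain ⟨_, ⟨V, hV, rfl⟩, hxV, -⟩ :=
    X.isBasis_affineOpens.exists_subset_of_mem_open (Set.mem_univ (a (IsLocalRing.closedPoint O))) isOpen_univ
  have hrange : ∀ c : Spec O ⟶ X, c (IsLocalRing.closedPoint O) ∈ V → ∀ p, c p ∈ V := fun c hc p =>
    ((IsLocalRing.specializes_closedPoint p).map c.continuous).mem_open V.isOpen hc
  obtain ⟨α, rfl⟩ := exists_preimage_affine hV a (hrange a hxV)
  obtain ⟨β, rfl⟩ := exists_preimage_affine hV b (hrange b (hcl ▸ hxV))
  congr 2
  refine CommRingCat.hom_ext (RingHom.ext fun r => sub_eq_zero.1 (Ideal.mem_bot.1 ?_))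
  rw [← Ideal.iInf_pow_eq_bot_of_isLocalRing m (Ideal.IsMaximal.ne_top inferInstance), Ideal.mem_iInf]
  intro k
  have hk : α ≫ CommRingCat.ofHom (Ideal.Quotient.mk (m ^ k)) = β ≫ CommRingCat.ofHom (Ideal.Quotient.mk (m ^ k)) := by
    refine Spec.map_injective ((cancel_mono hV.fromSpec).1 ?_)
    simp only [Spec.map_comp, Category.assoc]
    exact h k
  rw [← Ideal.Quotient.eq_zero_iff_mem, map_sub, sub_eq_zero]
  exact congr($hk r)

/-- Field extensions are epimorphic for maps to schemes. -/
theorem eq_of_field_ext {X : Scheme.{u}} {K L : CommRingCat.{u}} (hK : IsField K) [Nontrivial L] (i : K ⟶ L)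
    (a b : Spec K ⟶ X) (h : Spec.map i ≫ a = Spec.map i ≫ b) : a = b := by
  letI := hK.toField
  obtain ⟨q⟩ := (inferInstance : Nonempty (PrimeSpectrum L))
  haveI : Subsingleton (PrimeSpectrum K) := inferInstance
  have hsub : ∀ p : Spec K, p = Spec.map i q := fun p => Subsingleton.elim (α := PrimeSpectrum K) _ _
  have hab : ∀ p, a p = b p := fun p => by
    rw [hsub p, ← Scheme.Hom.comp_apply, h, Scheme.Hom.comp_apply]
  obtain ⟨_, ⟨V, hV, rfl⟩, hxV, -⟩ :=
    X.isBasis_affineOpens.exists_subset_of_mem_open (Set.mem_univ (a (Spec.map i q))) isOpen_univ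
  obtain ⟨α, rfl⟩ := exists_preimage_affine hV a fun p => by rw [hsub p]; exact hxV
  obtain ⟨β, rfl⟩ := exists_preimage_affine hV b fun p => by rw [← hab, hsub p]; exact hxV
  congr 2
  have h' : α ≫ i = β ≫ i := by
    refine Spec.map_injective ((cancel_mono hV.fromSpec).1 ?_)
    simpa only [Spec.map_comp, Category.assoc] using h
  exact CommRingCat.hom_ext (RingHom.ext fun r => i.hom.injective (congr($h' r)))

variable {S : Scheme.{u}} {M : Type} [AddCommGroup M] (N : AddSubmonoid M) {A : CommRingCat.{u}}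
  (str : Spec A ⟶ S) {X : Over S} (a : MonAct (AMonS S M) X) (ε : N →+ ℕ)

/-- Translating a point along the coaction by a character. -/
theorem translate_eq {y y' : spMA str N ⟶ X}
    (hy : MonAct.IsEquivariant ((subAct S M N).prod (MonAct.trivial (AMonS S M) (Over.mk str))) a
        ((specMAIso str N).inv ≫ y))
    (hy' : MonAct.IsEquivariant ((subAct S M N).prod (MonAct.trivial (AMonS S M) (Over.mk str))) a
        ((specMAIso str N).inv ≫ y'))
    {L K : CommRingCat.{u}} (γL : MA A N ⟶ L) (c : Multiplicative M →* L) (φ : MA A N ⟶ K) (i : K ⟶ L)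
    (hc : ∀ (n : Multiplicative N) (r : A),
      γL.hom (MonoidAlgebra.single n r) * c (Multiplicative.ofAdd (n.toAdd : M)) =
        i.hom (φ.hom (MonoidAlgebra.single n r)))
    (hL : Spec.map γL ≫ y.left = Spec.map γL ≫ y'.left) :
    Spec.map i ≫ Spec.map φ ≫ y.left = Spec.map i ≫ Spec.map φ ≫ y'.left := by
  let χ : MA L M ⟶ L :=
    CommRingCat.ofHom (MonoidAlgebra.liftNCRingHom (RingHom.id L) c fun _ _ => Commute.all _ _)
  have hχ : maCo A N.subtype ≫ maBase γL M ≫ χ = φ ≫ i := by
    have key : ∀ n r, (maCo A N.subtype ≫ maBase γL M ≫ χ).hom (MonoidAlgebra.single n r) =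
        (φ ≫ i).hom (MonoidAlgebra.single n r) := fun n r => by
      show χ.hom (MonoidAlgebra.mapRingHom _ _ ((maCo A N.subtype).hom (MonoidAlgebra.single n r))) = _
      rw [maCo_single, MonoidAlgebra.mapRingHom_single]
      exact (MonoidAlgebra.liftNC_single _ _ _ _).trans (hc n r)
    exact CommRingCat.hom_ext (MonoidAlgebra.ringHom_ext (fun r => key 1 r) fun n => key n 1)
  rw [isEquivariant_iff_coW] at hy hy'
  rw [← Spec.map_comp_assoc, ← Spec.map_comp_assoc, ← hχ]
  simp only [Spec.map_comp, Category.assoc]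
  rw [← hy, ← hy']
  congr 1
  let tL : Over.mk (Spec.map γL ≫ strN N str) ⟶ spMA str N := Over.homMk (Spec.map γL) rfl
  have hyL : tL ≫ y = tL ≫ y' := Over.OverMorphism.ext hL
  rw [← Category.assoc, ← Category.assoc (Spec.map (maBase γL M)),
    ← specMA_whiskerLeft' (strN N str) (Spec.map γL ≫ strN N str) γL tL rfl]
  simp only [Category.assoc, ← Over.comp_left, ← whiskerLeft_comp_assoc, hyL]

theorem exists_fac {R : Type u} [CommRing R] [IsDomain R] (p : Ideal R) [hp : p.IsPrime] :
    ∃ j : Localization.AtPrime p →+* FractionRing R,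
      j.comp (algebraMap R (Localization.AtPrime p)) = algebraMap R (FractionRing R) := by
  have hle : p.primeCompl ≤ nonZeroDivisors R := p.primeCompl_le_nonZeroDivisors
  have hu : ∀ s : p.primeCompl, IsUnit (algebraMap R (FractionRing R) s.1) := fun s =>
    IsLocalization.map_units (M := nonZeroDivisors R) (FractionRing R) ⟨s.1, hle s.2⟩
  exact ⟨IsLocalization.lift (M := p.primeCompl) (S := Localization.AtPrime p) (g := algebraMap R (FractionRing R)) hu,
    IsLocalization.lift_comp (M := p.primeCompl) (S := Localization.AtPrime p) (g := algebraMap R (FractionRing R)) hu⟩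

/-- The curve `t ↦ t^ε · φ` in `Spec A[N]`. -/
theorem exists_curve {K : CommRingCat.{u}} (φ : MA A N ⟶ K) :
    ∃ γ : MA A N ⟶ CommRingCat.of (Polynomial K), ∀ n r,
      γ.hom (MonoidAlgebra.single n r) =
        Polynomial.C (φ.hom (MonoidAlgebra.single n r)) * Polynomial.X ^ ε n.toAdd := by
  let e : Multiplicative N →* Polynomial K :=
    { toFun := fun n => Polynomial.C (φ.hom (MonoidAlgebra.single n 1)) * Polynomial.X ^ ε n.toAdd
      map_one' := by rw [← MonoidAlgebra.one_def, map_one, map_one, toAdd_one, map_zero, pow_zero, _root_.one_mul]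
      map_mul' := fun m n => by
        rw [show (MonoidAlgebra.single (m * n) 1 : MA A N) =
            MonoidAlgebra.single m 1 * MonoidAlgebra.single n 1 by rw [MonoidAlgebra.single_mul_single, _root_.one_mul],
          map_mul, map_mul, toAdd_mul, map_add, pow_add]
        ring }
  refine ⟨CommRingCat.ofHom (MonoidAlgebra.liftNCRingHom (Polynomial.C.comp (φ.hom.comp (maConst A N).hom)) e
    fun _ _ => Commute.all _ _), fun n r => ?_⟩
  refine (MonoidAlgebra.liftNC_single _ _ _ _).trans ?_
  show Polynomial.C (φ.hom ((maConst A N).hom r)) * (Polynomial.C _ * Polynomial.X ^ _) = _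
  rw [← _root_.mul_assoc, ← map_mul, ← map_mul]
  congr 3
  show MonoidAlgebra.single 1 r * MonoidAlgebra.single n 1 = _
  rw [MonoidAlgebra.single_mul_single, _root_.one_mul, _root_.mul_one]

set_option maxHeartbeats 1000000 in
theorem point_eq (h : M →+ ℤ) (hh : ∀ n : N, (ε n : ℤ) = h n) {y y' : spMA str N ⟶ X}
    (hy : MonAct.IsEquivariant ((subAct S M N).prod (MonAct.trivial (AMonS S M) (Over.mk str))) a
        ((specMAIso str N).inv ≫ y))
    (hy' : MonAct.IsEquivariant ((subAct S M N).prod (MonAct.trivial (AMonS S M) (Over.mk str))) a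
        ((specMAIso str N).inv ≫ y'))
    (ht : ∀ k, trIncl N str ε k ≫ y = trIncl N str ε k ≫ y')
    {K : Type u} [Field K] (φ : MA A N ⟶ CommRingCat.of K) : Spec.map φ ≫ y.left = Spec.map φ ≫ y'.left := by
  let pX : Ideal (Polynomial K) := Ideal.span {Polynomial.X}
  haveI hp : pX.IsPrime := (Ideal.span_singleton_prime Polynomial.X_ne_zero).mpr Polynomial.prime_X
  let O := Localization.AtPrime pX
  let L := FractionRing (Polynomial K)
  obtain ⟨γ, hγ⟩ := exists_curve N ε φ
  let γO : MA A N ⟶ CommRingCat.of O := γ ≫ CommRingCat.ofHom (algebraMap (Polynomial K) O)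
  have hX : algebraMap (Polynomial K) O Polynomial.X ∈ IsLocalRing.maximalIdeal O := by
    rw [← Localization.AtPrime.map_eq_maximalIdeal]
    exact Ideal.mem_map_of_mem _ (Ideal.mem_span_singleton_self _)
  have hkill : ∀ k, trI A ε k ≤
      RingHom.ker ((Ideal.Quotient.mk (IsLocalRing.maximalIdeal O ^ k)).comp γO.hom) := by
    intro k
    rw [trI, Ideal.span_le]
    rintro _ ⟨n, hn, rfl⟩
    refine Ideal.Quotient.eq_zero_iff_mem.mpr ?_
    show algebraMap (Polynomial K) O (γ.hom (MonoidAlgebra.single n 1)) ∈ _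
    rw [hγ, map_mul, map_pow]
    exact Ideal.mul_mem_left _ _ (Ideal.pow_le_pow_right hn (Ideal.pow_mem_pow hX _))
  haveI : IsNoetherianRing O := IsLocalization.isNoetherianRing pX.primeCompl _ inferInstance
  have hO : Spec.map γO ≫ y.left = Spec.map γO ≫ y'.left := by
    refine eq_of_adic _ _ fun k => ?_
    let q : trR A ε k ⟶ CommRingCat.of (O ⧸ IsLocalRing.maximalIdeal O ^ k) :=
      CommRingCat.ofHom (Ideal.Quotient.lift (trI A ε k)
        ((Ideal.Quotient.mk (IsLocalRing.maximalIdeal O ^ k)).comp γO.hom) fun z hz => hkill k hz)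
    have hq : trMk A ε k ≫ q = γO ≫ CommRingCat.ofHom (Ideal.Quotient.mk (IsLocalRing.maximalIdeal O ^ k)) := rfl
    rw [← Spec.map_comp_assoc, ← Spec.map_comp_assoc, ← hq, Spec.map_comp_assoc, Spec.map_comp_assoc]
    exact congrArg (Spec.map q ≫ ·) (congrArg (fun z => z.left) (ht k))
  let γL : MA A N ⟶ CommRingCat.of L := γ ≫ CommRingCat.ofHom (algebraMap (Polynomial K) L)
  have hL : Spec.map γL ≫ y.left = Spec.map γL ≫ y'.left := by
    obtain ⟨j, hj'⟩ := exists_fac (R := Polynomial K) pX
    have hj : γL = γO ≫ CommRingCat.ofHom j := by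
      simp only [γL, γO, Category.assoc, ← CommRingCat.ofHom_comp]
      exact congrArg (fun q => γ ≫ CommRingCat.ofHom q) hj'.symm
    exact (congrArg (Spec.map · ≫ y.left) hj).trans (((Spec.map_comp_assoc _ _ _).trans ((congrArg (_ ≫ ·) hO).trans
      (Spec.map_comp_assoc _ _ _).symm)).trans (congrArg (Spec.map · ≫ y'.left) hj).symm)
  have ht0 : algebraMap (Polynomial K) L Polynomial.X ≠ 0 :=
    (map_ne_zero_iff _ (IsFractionRing.injective (Polynomial K) L)).mpr Polynomial.X_ne_zero
  let c : Multiplicative M →* L :=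
    { toFun := fun m => algebraMap (Polynomial K) L Polynomial.X ^ (-h m.toAdd)
      map_one' := by rw [toAdd_one, map_zero, neg_zero, zpow_zero]
      map_mul' := fun m n => by rw [toAdd_mul, map_add, neg_add, zpow_add₀ ht0] }
  refine eq_of_field_ext (K := CommRingCat.of K) (Field.toIsField K) (CommRingCat.ofHom ((algebraMap (Polynomial K) L).comp Polynomial.C)) _ _
    (translate_eq N str a hy hy' γL c φ _ (fun n r => ?_) hL)
  show algebraMap (Polynomial K) L (γ.hom (MonoidAlgebra.single n r)) *
    algebraMap (Polynomial K) L Polynomial.X ^ (-h ((Multiplicative.ofAdd (n.toAdd : M)).toAdd)) =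
      algebraMap (Polynomial K) L (Polynomial.C (φ.hom (MonoidAlgebra.single n r)))
  rw [hγ, map_mul, map_pow, _root_.mul_assoc, ← zpow_natCast, hh n.toAdd, ← zpow_add₀ ht0, toAdd_ofAdd, add_neg_cancel,
    zpow_zero, _root_.mul_one]

set_option maxHeartbeats 1000000 in
/-- Equivariant maps agreeing on all truncations agree. -/
theorem eq_of_trunc_equivariant (h : M →+ ℤ) (hh : ∀ n : N, (ε n : ℤ) = h n) {y y' : spMA str N ⟶ X}
    (hy : MonAct.IsEquivariant ((subAct S M N).prod (MonAct.trivial (AMonS S M) (Over.mk str))) a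
        ((specMAIso str N).inv ≫ y))
    (hy' : MonAct.IsEquivariant ((subAct S M N).prod (MonAct.trivial (AMonS S M) (Over.mk str))) a
        ((specMAIso str N).inv ≫ y'))
    (ht : ∀ k, trIncl N str ε k ≫ y = trIncl N str ε k ≫ y') : y = y' := by
  let E := equalizer.ι y y'
  haveI : IsImmersion E.left := isImmersion_equalizer_ι_left y y'
  have hs : Function.Surjective E.left.base := fun p => by
    let Sp : Scheme.{u} := Spec (MA A N)
    let K := Sp.residueField p
    let φ : MA A N ⟶ K := Spec.preimage (Sp.fromSpecResidueField p)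
    have hφ : Spec.map φ = Sp.fromSpecResidueField p := Spec.map_preimage _
    have hyy := point_eq N str a ε h hh hy hy' ht (K := K) φ
    rw [hφ] at hyy
    let q : Over.mk (Sp.fromSpecResidueField p ≫ strN N str) ⟶ spMA str N :=
      Over.homMk (Sp.fromSpecResidueField p) rfl
    obtain ⟨pt⟩ := (inferInstance : Nonempty (PrimeSpectrum K))
    refine ⟨(equalizer.lift q (Over.OverMorphism.ext hyy)).left pt, ?_⟩
    show E.left ((equalizer.lift q (Over.OverMorphism.ext hyy)).left pt) = p
    rw [← Scheme.Hom.comp_apply, ← Over.comp_left, equalizer.lift_ι]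
    exact Scheme.fromSpecResidueField_apply p pt
  haveI : IsClosedImmersion E.left :=
    IsClosedImmersion.of_isPreimmersion _ (by rw [Set.range_eq_univ.mpr hs]; exact isClosed_univ)
  haveI : IsAffine (spMA str N).left := inferInstanceAs (IsAffine (Spec _))
  have hinj : Function.Injective E.left.appTop := by
    intro z₁ z₂ hz
    refine ((ConcreteCategory.isIso_iff_bijective (Scheme.ΓSpecIso (MA A N)).hom).1 inferInstance).1 ?_
    refine sub_eq_zero.1 (eq_zero_of_forall_mem (ε := ε) fun k => ?_)
    have hfac : (equalizer.lift (trIncl N str ε k) (ht k)).left ≫ E.left = Spec.map (trMk A ε k) := by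
      rw [← Over.comp_left, equalizer.lift_ι]; rfl
    have h1 : (Spec.map (trMk A ε k)).appTop z₁ = (Spec.map (trMk A ε k)).appTop z₂ := by
      rw [← hfac, Scheme.Hom.comp_appTop]
      exact congrArg (equalizer.lift (trIncl N str ε k) (ht k)).left.appTop hz
    rw [← trMk_eq_zero, map_sub, sub_eq_zero]
    have n1 := congr($(Scheme.ΓSpecIso_naturality (trMk A ε k)) z₁)
    have n2 := congr($(Scheme.ΓSpecIso_naturality (trMk A ε k)) z₂)
    exact n1.symm.trans ((congrArg (Scheme.ΓSpecIso (trR A ε k)).hom h1).trans n2)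
  haveI : IsIso E.left := IsClosedImmersion.isIso_of_injective_of_isAffine hinj
  refine Over.OverMorphism.ext ?_
  rw [← cancel_epi E.left, ← Over.comp_left, ← Over.comp_left, equalizer.condition]

end Groth.MagnetEtale
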