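import Groth.Agent.MagnetEtale.Lift
import Groth.Agent.MagnetEtale.Formal
import Groth.Agent.MagnetRetract.Height

/-!
# Lifting attractor points along étale equivariant maps: affine test scheme, finitely generated magnet
-/

set_option autoImplicit false
universe u

open CategoryTheory CategoryTheory.Limits MonoidalCategory CartesianMonoidalCategory MonObj AlgebraicGeometry Opposite
open Magnet Groth.MiscGeom.Mag

noncomputable section

namespace Groth.MagnetEtale

variable {S : Scheme.{u}} {M : Type} [AddCommGroup M] {N Q : AddSubmonoid M} (hQ : IsFace N Q)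
  {A : CommRingCat.{u}} (str : Spec A ⟶ S) {X U : Over S}
  {aX : MonAct (AMonS S M) X} {aU : MonAct (AMonS S M) U} {f : U ⟶ X}

theorem exists_face_factor (ε : N →+ ℕ) (hε : ∀ x : N, ε x = 0 ↔ (x : M) ∈ Q) :
    ∃ sF : spMA str Q ⟶ Over.mk (trStr N str ε 1),
      sF ≫ trIncl N str ε 1 ≫ (specMAIso str N).hom =
        (specMAIso str Q).hom ≫ (AMonS.faceMap S hQ ▷ Over.mk str) := by
  let p : MA A N ⟶ MA A Q := CommRingCat.ofHom (faceAlgHom A hQ).toRingHom
  have hk : trI A ε 1 ≤ RingHom.ker p.hom := by
    rw [trI, Ideal.span_le]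
    rintro _ ⟨n, hn, rfl⟩
    obtain ⟨n, rfl⟩ : ∃ n', Multiplicative.ofAdd n' = n := ⟨n.toAdd, rfl⟩
    refine faceAlgHom_single_of_not_mem A hQ n (fun h => ?_) 1
    have hn' : 1 ≤ ε n := hn
    have := (hε n).2 h
    omega
  let q : trR A ε 1 ⟶ MA A Q := CommRingCat.ofHom (Ideal.Quotient.lift (trI A ε 1) p.hom fun z hz => hk hz)
  have hq : trMk A ε 1 ≫ q = p := rfl
  have hc : maConst A N ≫ trMk A ε 1 ≫ q = maConst A Q := by
    rw [hq]
    exact CommRingCat.hom_ext (RingHom.ext fun r => (faceAlgHom A hQ).commutes r)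
  refine ⟨Over.homMk (Spec.map q) ?_, Over.OverMorphism.ext ?_⟩
  · show Spec.map q ≫ Spec.map (trMk A ε 1) ≫ Spec.map (maConst A N) ≫ str = Spec.map (maConst A Q) ≫ str
    rw [← hc, Spec.map_comp, Spec.map_comp, Category.assoc, Category.assoc]
  · show Spec.map q ≫ Spec.map (trMk A ε 1) ≫ (specMA str N).hom =
      (specMA str Q).hom ≫ (AMonS.faceMap S hQ ▷ Over.mk str).left
    rw [Groth.SpecFerrand.Magnet.specMA_faceWhisker str hQ, ← Spec.map_comp_assoc, hq]

variable [IsAffineHom U.hom]

set_option maxHeartbeats 1000000 in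
theorem existsUnique_lift_fg [AddGroup.FG M] [Etale f.left] (hf : MonAct.IsEquivariant aU aX f) (hN : N.FG)
    (x : AMonS S N ⊗ Over.mk str ⟶ X)
    (hx : MonAct.IsEquivariant ((subAct S M N).prod (MonAct.trivial (AMonS S M) (Over.mk str))) aX x)
    (u : AMonS S Q ⊗ Over.mk str ⟶ U)
    (hu : MonAct.IsEquivariant ((subAct S M Q).prod (MonAct.trivial (AMonS S M) (Over.mk str))) aU u)
    (w : u ≫ f = (AMonS.faceMap S hQ ▷ Over.mk str) ≫ x) :
    ∃! φ : AMonS S N ⊗ Over.mk str ⟶ U,
      MonAct.IsEquivariant ((subAct S M N).prod (MonAct.trivial (AMonS S M) (Over.mk str))) aU φ ∧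
        φ ≫ f = x ∧ (AMonS.faceMap S hQ ▷ Over.mk str) ≫ φ = u := by
  obtain ⟨h, hh⟩ := Groth.MagnetRetract.exists_form hN hQ
  let ε : N →+ ℕ :=
    { toFun := fun n => (h n).toNat
      map_zero' := by simp
      map_add' := fun m n => by
        have h1 := (hh _ m.2).1
        have h2 := (hh _ n.2).1
        simp only [AddSubmonoid.coe_add, map_add]
        omega }
  have hεh : ∀ n : N, (ε n : ℤ) = h n := fun n => Int.toNat_of_nonneg (hh _ n.2).1
  have hε : ∀ n : N, ε n = 0 ↔ (n : M) ∈ Q := fun n => by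
    rw [← (hh _ n.2).2, ← hεh n]
    exact Int.natCast_eq_zero.symm
  let u0 := specMAIso str N
  let x' : spMA str N ⟶ X := u0.hom ≫ x
  let y' : spMA str N ⟶ U := retr hQ str ≫ u
  have hx' : MonAct.IsEquivariant ((subAct S M N).prod (MonAct.trivial (AMonS S M) (Over.mk str))) aX
      (u0.inv ≫ x') := by simpa [x'] using hx
  have hr : MonAct.IsEquivariant (subAct S M N) (subAct S M Q) (AMonS.map S (AddSubmonoid.inclusion hQ.le)) :=
    MonAct.isEquivariant_restrict_regular _ _ _ (by rw [← AMonS.map_comp]; rfl)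
  have hy' : MonAct.IsEquivariant ((subAct S M N).prod (MonAct.trivial (AMonS S M) (Over.mk str))) aU
      (u0.inv ≫ y') := by
    have := (Groth.SpecFerrand.Magnet.isEquivariant_whiskerRight (Y := Over.mk str) _ hr).comp hu
    simpa [y', u0] using this
  have h1 : trIncl N str ε 1 ≫ y' ≫ f = trIncl N str ε 1 ≫ x' := by
    simp only [y', Category.assoc, w]
    have e := congrArg (· ≫ x) (trIncl_one_retr hQ str ε hε)
    simpa [x', u0] using e
  obtain ⟨s⟩ := exists_trSys str ε hf x' hx' y' hy' h1
  obtain ⟨y, hy, hys⟩ := exists_limit str ε s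
  obtain ⟨sF, hsF⟩ := exists_face_factor hQ str ε hε
  refine ⟨u0.inv ≫ y, ⟨hy, ?_, ?_⟩, fun φ hφ => ?_⟩
  · have he : y ≫ f = x' := by
      have hyf : MonAct.IsEquivariant ((subAct S M N).prod (MonAct.trivial (AMonS S M) (Over.mk str))) aX
          (u0.inv ≫ y ≫ f) := by
        rw [← Category.assoc]
        exact hy.comp hf
      refine eq_of_trunc_equivariant N str aX ε h hεh hyf hx' fun k => ?_
      cases k with
      | zero => rw [← trNext_trIncl, Category.assoc, Category.assoc, reassoc_of% (hys 0), s.comp_f 0]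
      | succ k => rw [reassoc_of% (hys k), s.comp_f k]
    rw [Category.assoc, he]
    simp [x']
  · have e : trIncl N str ε 1 ≫ y = trIncl N str ε 1 ≫ y' := (hys 0).trans s.start
    rw [← cancel_epi (specMAIso str Q).hom, ← Category.assoc, ← hsF]
    simp only [Category.assoc, u0, Iso.hom_inv_id_assoc, e]
    have e2 : sF ≫ trIncl N str ε 1 ≫ retr hQ str = (specMAIso str Q).hom := by
      have := congrArg (· ≫ (AMonS.map S (AddSubmonoid.inclusion hQ.le) ▷ Over.mk str)) hsF
      simp only [Category.assoc, ← comp_whiskerRight, AMonS.faceMap_comp_map, id_whiskerRight,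
        Category.comp_id] at this
      exact this
    simp only [y', ← Category.assoc] at *
    rw [e2]
  · obtain ⟨-, hφf, hφu⟩ := hφ
    have : u0.hom ≫ φ = y := by
      refine trunc_unique hQ str ε hε (f := f) ?_ ?_
      · rw [Iso.inv_hom_id_assoc, hφu]
        have e : trIncl N str ε 1 ≫ y = trIncl N str ε 1 ≫ y' := (hys 0).trans s.start
        refine (cancel_epi (specMAIso str Q).hom).1 ?_
        rw [← Category.assoc (specMAIso str Q).hom, ← hsF]
        simp only [Category.assoc, Iso.hom_inv_id_assoc, e]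
        have e2 : sF ≫ trIncl N str ε 1 ≫ retr hQ str = (specMAIso str Q).hom := by
          have := congrArg (· ≫ (AMonS.map S (AddSubmonoid.inclusion hQ.le) ▷ Over.mk str)) hsF
          simp only [Category.assoc, ← comp_whiskerRight, AMonS.faceMap_comp_map, id_whiskerRight,
            Category.comp_id] at this
          exact this
        simp only [y', ← Category.assoc] at *
        rw [e2]
      · rw [Category.assoc, hφf]
        refine eq_of_trunc_equivariant N str aX ε h hεh hx' ?_ fun k => ?_
        · rw [← Category.assoc]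
          exact hy.comp hf
        · cases k with
          | zero => rw [← trNext_trIncl, Category.assoc, Category.assoc, reassoc_of% (hys 0), s.comp_f 0]
          | succ k => rw [reassoc_of% (hys k), s.comp_f k]
    rw [← this, Iso.inv_hom_id_assoc]

end Groth.MagnetEtale
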