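import Groth.Agent.MagnetEtale.Core
import Groth.Agent.MagnetSmooth.Union
import Groth.Agent.MagnetRetract.Face

/-!
# Lifting attractor points along étale equivariant maps: general case
-/

set_option autoImplicit false
universe u

open CategoryTheory CategoryTheory.Limits MonoidalCategory CartesianMonoidalCategory MonObj AlgebraicGeometry Opposite
open Magnet Groth.MiscGeom.Mag

noncomputable section

namespace Groth.MagnetEtale

variable {S : Scheme.{u}} {M : Type} [AddCommGroup M] {X U : Over S}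
  {aX : MonAct (AMonS S M) X} {aU : MonAct (AMonS S M) U} {f : U ⟶ X}

/-- The defining property of the lift. -/
def IsSol {N Q : AddSubmonoid M} (hQ : IsFace N Q) (aU : MonAct (AMonS S M) U) (f : U ⟶ X) {T : Over S}
    (x : AMonS S N ⊗ T ⟶ X) (u : AMonS S Q ⊗ T ⟶ U) (φ : AMonS S N ⊗ T ⟶ U) : Prop :=
  MonAct.IsEquivariant ((subAct S M N).prod (MonAct.trivial (AMonS S M) T)) aU φ ∧
    φ ≫ f = x ∧ (AMonS.faceMap S hQ ▷ T) ≫ φ = u

/-- Unique lifting over the test object `T`. -/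
def LiftsOn {N Q : AddSubmonoid M} (hQ : IsFace N Q) (aX : MonAct (AMonS S M) X) (aU : MonAct (AMonS S M) U)
    (f : U ⟶ X) (T : Over S) : Prop :=
  ∀ (x : AMonS S N ⊗ T ⟶ X) (u : AMonS S Q ⊗ T ⟶ U),
    MonAct.IsEquivariant ((subAct S M N).prod (MonAct.trivial (AMonS S M) T)) aX x →
    MonAct.IsEquivariant ((subAct S M Q).prod (MonAct.trivial (AMonS S M) T)) aU u →
    u ≫ f = (AMonS.faceMap S hQ ▷ T) ≫ x → ∃! φ, IsSol hQ aU f x u φ

theorem isEquivariant_incl {N L : AddSubmonoid M} (h : N ≤ L) (T : Over S) :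
    MonAct.IsEquivariant ((subAct S M L).prod (MonAct.trivial (AMonS S M) T))
      ((subAct S M N).prod (MonAct.trivial (AMonS S M) T)) (AMonS.map S (AddSubmonoid.inclusion h) ▷ T) :=
  Groth.SpecFerrand.Magnet.isEquivariant_whiskerRight _
    (MonAct.isEquivariant_restrict_regular _ _ _ (by rw [← AMonS.map_comp]; rfl))

theorem incl_comp {N L P : AddSubmonoid M} (h : N ≤ L) (h' : L ≤ P) :
    AMonS.map S (AddSubmonoid.inclusion h') ≫ AMonS.map S (AddSubmonoid.inclusion h) =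
      AMonS.map S (AddSubmonoid.inclusion (h.trans h')) := by
  rw [← AMonS.map_comp]
  rfl

theorem face_incl {N Q N' Q' : AddSubmonoid M} (hQ : IsFace N Q) (hQ' : IsFace N' Q') (hN : N' ≤ N) (hQQ : Q' ≤ Q)
    (hmem : ∀ n ∈ N', n ∈ Q → n ∈ Q') :
    AMonS.faceMap S hQ ≫ AMonS.map S (AddSubmonoid.inclusion hN) =
      AMonS.map S (AddSubmonoid.inclusion hQQ) ≫ AMonS.faceMap S hQ' := by
  rw [← Category.id_comp (AMonS.faceMap S hQ), Category.assoc]
  refine pv_ext fun n => ?_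
  rw [← Category.assoc, pv_map, Groth.MagnetRetract.pv_faceMap, Groth.MagnetRetract.pv_faceMap]
  by_cases h : (n.toAdd : M) ∈ Q'
  · rw [dif_pos h, dif_pos (show ((AddMonoidHom.toMultiplicative (AddSubmonoid.inclusion hN) n).toAdd : M) ∈ Q from hQQ h),
      ← Category.id_comp (AMonS.map S (AddSubmonoid.inclusion hQQ)), pv_map]
    rfl
  · rw [dif_neg h, dif_neg]
    exact fun h' => h (hmem _ n.toAdd.2 h')

theorem exists_stage {J : Type} [Preorder J] [IsDirected J (· ≤ ·)] [Nonempty J] (F : J → AddSubmonoid M)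
    (hF : Monotone F) {P : AddSubmonoid M} (hle : ∀ i, F i ≤ P) (hP : P ≤ ⨆ i, F i)
    [IsSeparated X.hom] [LocallyOfFinitePresentation X.hom] (a : MonAct (AMonS S M) X)
    {A : CommRingCat.{u}} (str : Spec A ⟶ S) (φ : AMonS S P ⊗ Over.mk str ⟶ X)
    (hφ : MonAct.IsEquivariant ((subAct S M P).prod (MonAct.trivial (AMonS S M) (Over.mk str))) a φ) :
    ∃ (i : J) (ψ : AMonS S (F i) ⊗ Over.mk str ⟶ X),
      MonAct.IsEquivariant ((subAct S M (F i)).prod (MonAct.trivial (AMonS S M) (Over.mk str))) a ψ ∧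
        (AMonS.map S (AddSubmonoid.inclusion (hle i)) ▷ Over.mk str) ≫ ψ = φ := by
  obtain rfl : P = ⨆ i, F i := le_antisymm hP (iSup_le hle)
  obtain ⟨i, ψ, hψ⟩ := Groth.MagnetSmooth.Union.exists_attr F hF A str a ⟨φ, hφ⟩
  exact ⟨i, ψ.1, ψ.2, congrArg Subtype.val hψ⟩

variable [IsAffineHom U.hom] [Etale f.left]

theorem liftsOn_spec_fg [AddGroup.FG M] (hf : MonAct.IsEquivariant aU aX f) {N Q : AddSubmonoid M}
    (hQ : IsFace N Q) (hN : N.FG) {A : CommRingCat.{u}} (str : Spec A ⟶ S) :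
    LiftsOn hQ aX aU f (Over.mk str) :=
  fun x u hx hu w => existsUnique_lift_fg hQ str hf hN x hx u hu w

set_option maxHeartbeats 1000000 in
theorem liftsOn_spec [AddGroup.FG M] [IsSeparated X.hom] [LocallyOfFinitePresentation X.hom]
    (hf : MonAct.IsEquivariant aU aX f) {N Q : AddSubmonoid M} (hQ : IsFace N Q) {A : CommRingCat.{u}}
    (str : Spec A ⟶ S) : LiftsOn hQ aX aU f (Over.mk str) := by
  haveI : LocallyOfFinitePresentation U.hom := by rw [← Over.w f]; infer_instance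
  haveI : IsSeparated U.hom := inferInstance
  intro x u hx hu w
  let T : Over S := Over.mk str
  let J := {P : AddSubmonoid M // P.FG ∧ P ≤ N}
  haveI : Nonempty J := ⟨⟨⊥, AddSubmonoid.FG.bot, bot_le⟩⟩
  haveI : IsDirected J (· ≤ ·) :=
    ⟨fun a b => ⟨⟨a.1 ⊔ b.1, a.2.1.sup b.2.1, sup_le a.2.2 b.2.2⟩,
      (le_sup_left : a.1 ≤ a.1 ⊔ b.1), (le_sup_right : b.1 ≤ a.1 ⊔ b.1)⟩⟩
  let FN : J → AddSubmonoid M := fun P => P.1
  let FQ : J → AddSubmonoid M := fun P => Q ⊓ P.1
  have hFN : Monotone FN := fun a b h => h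
  have hFQ : Monotone FQ := fun a b h => inf_le_inf_left Q (h : a.1 ≤ b.1)
  have hsN : N ≤ ⨆ i, FN i := fun n hn => by
    have hP : (AddSubmonoid.closure {n} : AddSubmonoid M).FG := ⟨{n}, by simp⟩
    exact le_iSup FN ⟨_, hP, (AddSubmonoid.closure_le).2 (by simpa using hn)⟩
      (AddSubmonoid.subset_closure (Set.mem_singleton n))
  have hsQ : Q ≤ ⨆ i, FQ i := fun n hn => by
    have hP : (AddSubmonoid.closure {n} : AddSubmonoid M).FG := ⟨{n}, by simp⟩
    exact le_iSup FQ ⟨_, hP, (AddSubmonoid.closure_le).2 (by simpa using hQ.le hn)⟩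
      ⟨hn, AddSubmonoid.subset_closure (Set.mem_singleton n)⟩
  have hface : ∀ i : J, IsFace i.1 (FQ i) := fun i =>
    { le := inf_le_right
      mem_of_add_mem := fun a ha b hb h =>
        have h' := hQ.mem_of_add_mem a (i.2.2 ha) b (i.2.2 hb) h.1
        ⟨⟨h'.1, ha⟩, h'.2, hb⟩ }
  have hnat : ∀ i : J, (AMonS.faceMap S hQ ▷ T) ≫ (AMonS.map S (AddSubmonoid.inclusion i.2.2) ▷ T) =
      (AMonS.map S (AddSubmonoid.inclusion (inf_le_left : FQ i ≤ Q)) ▷ T) ≫ (AMonS.faceMap S (hface i) ▷ T) := by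
    intro i
    rw [← comp_whiskerRight, ← comp_whiskerRight,
      face_incl hQ (hface i) i.2.2 inf_le_left fun n hn hq => ⟨hq, hn⟩]
  -- data at a stage
  obtain ⟨i₁, x₁, hx₁, rfl⟩ := exists_stage FN hFN (fun i => i.2.2) hsN aX str x hx
  obtain ⟨i₂, u₂, hu₂, rfl⟩ := exists_stage FQ hFQ (fun i => inf_le_left) hsQ aU str u hu
  have at_stage : ∀ k (h₁ : i₁ ≤ k) (h₂ : i₂ ≤ k),
      ∃! φ, IsSol (hface k) aU f ((AMonS.map S (AddSubmonoid.inclusion (hFN h₁)) ▷ T) ≫ x₁)
        ((AMonS.map S (AddSubmonoid.inclusion (hFQ h₂)) ▷ T) ≫ u₂) φ := by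
    intro k h₁ h₂
    refine liftsOn_spec_fg hf (hface k) k.2.1 str _ _ ((isEquivariant_incl _ T).comp hx₁)
      ((isEquivariant_incl _ T).comp hu₂) ?_
    refine whiskerRight_cancel (AddSubmonoid.inclusion (inf_le_left : FQ k ≤ Q)) (AddSubmonoid.inclusion_injective _) ?_
    rw [← reassoc_of% (hnat k)]
    simp only [T, ← Category.assoc, ← comp_whiskerRight, incl_comp] at w ⊢
    simp only [Category.assoc] at w ⊢
    exact w
  obtain ⟨k, h₁, h₂⟩ := exists_ge_ge i₁ i₂
  obtain ⟨φk, ⟨hφe, hφf, hφu⟩, -⟩ := at_stage k h₁ h₂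
  refine ⟨(AMonS.map S (AddSubmonoid.inclusion k.2.2) ▷ T) ≫ φk,
    ⟨(isEquivariant_incl _ T).comp hφe, ?_, ?_⟩, ?_⟩
  · rw [Category.assoc, hφf, ← Category.assoc, ← comp_whiskerRight, incl_comp]
  · rw [reassoc_of% (hnat k), hφu, ← Category.assoc, ← comp_whiskerRight, incl_comp]
  rintro φ ⟨he, hff, huu⟩
  obtain ⟨i₃, φ₃, hφ₃, rfl⟩ := exists_stage FN hFN (fun i => i.2.2) hsN aU str φ he
  obtain ⟨l, hl₁, hl₂⟩ := exists_ge_ge i₃ k
  obtain ⟨ψ, -, hψ⟩ := at_stage l (h₁.trans hl₂) (h₂.trans hl₂)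
  have e1 := hψ ((AMonS.map S (AddSubmonoid.inclusion (hFN hl₁)) ▷ T) ≫ φ₃) ⟨(isEquivariant_incl _ T).comp hφ₃, ?_, ?_⟩
  have e2 := hψ ((AMonS.map S (AddSubmonoid.inclusion (hFN hl₂)) ▷ T) ≫ φk) ⟨(isEquivariant_incl _ T).comp hφe, ?_, ?_⟩
  · have := congrArg ((AMonS.map S (AddSubmonoid.inclusion l.2.2) ▷ T) ≫ ·) (e1.trans e2.symm)
    simpa only [← Category.assoc, ← comp_whiskerRight, incl_comp] using this
  · rw [Category.assoc, hφf, ← Category.assoc, ← comp_whiskerRight, incl_comp]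
  · have hn : (AMonS.faceMap S (hface l) ▷ T) ≫ (AMonS.map S (AddSubmonoid.inclusion (hFN hl₂)) ▷ T) =
        (AMonS.map S (AddSubmonoid.inclusion (hFQ hl₂)) ▷ T) ≫ (AMonS.faceMap S (hface k) ▷ T) := by
      rw [← comp_whiskerRight, ← comp_whiskerRight, face_incl (hface l) (hface k) (hFN hl₂) (hFQ hl₂)
        fun n hn hq => ⟨hq.1, hn⟩]
    rw [reassoc_of% hn, hφu, ← Category.assoc, ← comp_whiskerRight, incl_comp]
  · refine whiskerRight_cancel (AddSubmonoid.inclusion l.2.2) (AddSubmonoid.inclusion_injective _) ?_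
    simp only [T, ← Category.assoc, ← comp_whiskerRight, incl_comp] at hff ⊢
    exact hff
  · refine whiskerRight_cancel (AddSubmonoid.inclusion (inf_le_left : FQ l ≤ Q)) (AddSubmonoid.inclusion_injective _) ?_
    rw [← reassoc_of% (hnat l)]
    simp only [T, ← Category.assoc, ← comp_whiskerRight, incl_comp] at huu ⊢
    exact huu

/-- Unique lifting over affine test objects gives unique lifting everywhere. -/
theorem liftsOn_of_spec {N Q : AddSubmonoid M} (hQ : IsFace N Q)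
    (H : ∀ (A : CommRingCat.{u}) (str : Spec A ⟶ S), LiftsOn hQ aX aU f (Over.mk str)) (T : Over S) :
    LiftsOn hQ aX aU f T := by
  have res : ∀ {T T' : Over S} (t : T' ⟶ T) {x u φ}, IsSol hQ aU f x u φ →
      IsSol (T := T') hQ aU f ((AMonS S N ◁ t) ≫ x) ((AMonS S Q ◁ t) ≫ u) ((AMonS S N ◁ t) ≫ φ) := by
    rintro T T' t x u φ ⟨h1, h2, h3⟩
    refine ⟨MonAct.IsEquivariant.comp (MonAct.prod_trivial_act_whiskerLeft _ t) h1, by rw [Category.assoc, h2], ?_⟩
    rw [← whisker_exchange_assoc, h3]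
  have eqv : ∀ {P : AddSubmonoid M} {Y : Over S} {a : MonAct (AMonS S M) Y} {T T' : Over S} (t : T' ⟶ T)
      {x : AMonS S P ⊗ T ⟶ Y}, MonAct.IsEquivariant ((subAct S M P).prod (MonAct.trivial (AMonS S M) T)) a x →
      MonAct.IsEquivariant ((subAct S M P).prod (MonAct.trivial (AMonS S M) T')) a ((AMonS S P ◁ t) ≫ x) :=
    fun t _ h => MonAct.IsEquivariant.comp (MonAct.prod_trivial_act_whiskerLeft _ t) h
  have cmp : ∀ {T T' : Over S} (t : T' ⟶ T) {x u}, u ≫ f = (AMonS.faceMap S hQ ▷ T) ≫ x →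
      ((AMonS S Q ◁ t) ≫ u) ≫ f = (AMonS.faceMap S hQ ▷ T') ≫ (AMonS S N ◁ t) ≫ x := by
    intro T T' t x u h
    rw [Category.assoc, h, whisker_exchange_assoc]
  have uniq : ∀ (T : Over S) x u, MonAct.IsEquivariant ((subAct S M N).prod (MonAct.trivial (AMonS S M) T)) aX x →
      MonAct.IsEquivariant ((subAct S M Q).prod (MonAct.trivial (AMonS S M) T)) aU u →
      u ≫ f = (AMonS.faceMap S hQ ▷ T) ≫ x →
      ∀ φ φ', IsSol hQ aU f x u φ → IsSol hQ aU f x u φ' → φ = φ' := by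
    intro T x u hx hu w φ φ' h h'
    refine whiskerLeft_cover_ext T.left.affineCover fun j => ?_
    let t : Over.mk (T.left.affineCover.f j ≫ T.hom) ⟶ T := Over.homMk (T.left.affineCover.f j)
    exact (H _ (T.left.affineCover.f j ≫ T.hom) _ _ (eqv t hx) (eqv t hu) (cmp t w)).unique (res t h) (res t h')
  intro x u hx hu w
  let t := fun j => (Over.homMk (T.left.affineCover.f j) : Over.mk (T.left.affineCover.f j ≫ T.hom) ⟶ T)
  choose φ hφ using fun j => (H _ (T.left.affineCover.f j ≫ T.hom) _ _ (eqv (t j) hx) (eqv (t j) hu) (cmp (t j) w)).exists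
  obtain ⟨χ, hχ⟩ := exists_glue T.left.affineCover φ (by
    intro j k W p q e
    change p ≫ (_ ◁ t j) = q ≫ (_ ◁ t k) at e
    have e1 := congrArg (· ≫ fst _ _) e
    have e2 := congrArg (· ≫ snd _ _) e
    simp only [Category.assoc, whiskerLeft_fst, whiskerLeft_snd] at e1 e2
    let P : Over S := Over.mk (pullback.fst (T.left.affineCover.f j) (T.left.affineCover.f k) ≫
      T.left.affineCover.f j ≫ T.hom)
    let a : P ⟶ Over.mk (T.left.affineCover.f j ≫ T.hom) :=
      Over.homMk (pullback.fst (T.left.affineCover.f j) (T.left.affineCover.f k))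
    let b : P ⟶ Over.mk (T.left.affineCover.f k ≫ T.hom) :=
      Over.homMk (pullback.snd (T.left.affineCover.f j) (T.left.affineCover.f k)) (by
        simp [P, pullback.condition_assoc])
    have hab : a ≫ t j = b ≫ t k := Over.OverMorphism.ext pullback.condition
    let w' : W ⟶ P := Over.homMk (pullback.lift (p ≫ snd _ _).left (q ≫ snd _ _).left
      (congrArg CommaMorphism.left e2 |> fun h => by simpa [t] using h)) (by
        simp only [P, Over.mk_hom]
        rw [pullback.lift_fst_assoc]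
        exact Over.w (p ≫ snd _ _))
    have hwa : w' ≫ a = p ≫ snd _ _ := Over.OverMorphism.ext (pullback.lift_fst _ _ _)
    have hwb : w' ≫ b = q ≫ snd _ _ := Over.OverMorphism.ext (pullback.lift_snd _ _ _)
    have key : (AMonS S N ◁ a) ≫ φ j = (AMonS S N ◁ b) ≫ φ k := by
      refine uniq P _ _ (eqv (a ≫ t j) hx) (eqv (a ≫ t j) hu) (cmp (a ≫ t j) w) _ _ ?_ ?_
      · have h := res a (hφ j)
        rwa [← whiskerLeft_comp_assoc, ← whiskerLeft_comp_assoc] at h
      · have h := res b (hφ k)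
        rwa [← whiskerLeft_comp_assoc, ← whiskerLeft_comp_assoc, ← hab] at h
    have hp : p = lift (p ≫ fst _ _) w' ≫ (AMonS S N ◁ a) := by
      rw [lift_whiskerLeft, hwa, lift_comp_fst_snd]
    have hq : q = lift (p ≫ fst _ _) w' ≫ (AMonS S N ◁ b) := by
      rw [lift_whiskerLeft, hwb, e1, lift_comp_fst_snd]
    rw [hp, hq, Category.assoc, Category.assoc, key])
  refine ⟨χ, ⟨?_, ?_, ?_⟩, fun χ' h' => ?_⟩
  · unfold MonAct.IsEquivariant
    rw [← cancel_epi (α_ (AMonS S M) (AMonS S N) T).hom]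
    refine whiskerLeft_cover_ext T.left.affineCover fun j => ?_
    change ((AMonS S M ⊗ AMonS S N) ◁ t j) ≫ _ = ((AMonS S M ⊗ AMonS S N) ◁ t j) ≫ _
    rw [associator_naturality_right_assoc, associator_naturality_right_assoc,
      ← MonAct.prod_trivial_act_whiskerLeft_assoc, ← whiskerLeft_comp_assoc (AMonS S M), hχ j]
    exact congrArg _ (hφ j).1
  · refine whiskerLeft_cover_ext T.left.affineCover fun j => ?_
    rw [reassoc_of% (hχ j)]
    exact (hφ j).2.1
  · refine whiskerLeft_cover_ext T.left.affineCover fun j => ?_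
    rw [whisker_exchange_assoc, hχ j]
    exact (hφ j).2.2
  · refine whiskerLeft_cover_ext T.left.affineCover fun j => ?_
    rw [hχ j]
    exact (H _ (T.left.affineCover.f j ≫ T.hom) _ _ (eqv (t j) hx) (eqv (t j) hu) (cmp (t j) w)).unique
      (res (t j) h') (hφ j)

/-- Unique lifting of attractor points along étale equivariant maps. -/
theorem liftsOn [AddGroup.FG M] (hf : MonAct.IsEquivariant aU aX f) {N Q : AddSubmonoid M} (hQ : IsFace N Q)
    (h : N.FG ∨ (IsSeparated X.hom ∧ LocallyOfFinitePresentation X.hom)) (T : Over S) :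
    LiftsOn hQ aX aU f T := by
  refine liftsOn_of_spec hQ (fun A str => ?_) T
  rcases h with h | ⟨h1, h2⟩
  · exact liftsOn_spec_fg hf hQ h str
  · exact liftsOn_spec hf hQ str

end Groth.MagnetEtale
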