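import Groth.Agent.MagnetEtale.Coact
import Groth.Agent.MagnetSmooth.Face
import Groth.Agent.MiscGeom.MagnetUnram
import Mathlib.AlgebraicGeometry.Morphisms.Etale

/-!
# Formal lifts of attractor points along étale equivariant maps
-/

set_option autoImplicit false
universe u

open CategoryTheory CategoryTheory.Limits MonoidalCategory CartesianMonoidalCategory MonObj AlgebraicGeometry Opposite
open Magnet Groth.MiscGeom.Mag

noncomputable section

namespace Groth.MagnetEtale

variable {S : Scheme.{u}} {M : Type} [AddCommMonoid M] {N Q : AddSubmonoid M} (hQ : IsFace N Q)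
  {A : CommRingCat.{u}} (str : Spec A ⟶ S) {X U : Over S} [IsAffineHom U.hom]
  {aX : MonAct (AMonS S M) X} {aU : MonAct (AMonS S M) U} {f : U ⟶ X}
  (ε : N →+ ℕ) (hε : ∀ x : N, ε x = 0 ↔ (x : M) ∈ Q)

/-- the retraction `A(N) × Spec A → A(Q) × Spec A` -/
abbrev retr : spMA str N ⟶ AMonS S Q ⊗ Over.mk str :=
  (specMAIso str N).hom ≫ (AMonS.map S (AddSubmonoid.inclusion hQ.le) ▷ Over.mk str)

include hε in
theorem trIncl_one_retr :
    trIncl N str ε 1 ≫ retr hQ str ≫ (AMonS.faceMap S hQ ▷ Over.mk str) =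
      trIncl N str ε 1 ≫ (specMAIso str N).hom := by
  apply Over.OverMorphism.ext
  show Spec.map (trMk A ε 1) ≫ ((specMA str N).hom ≫ (AMonS.map S (AddSubmonoid.inclusion hQ.le) ▷ Over.mk str).left) ≫
      (AMonS.faceMap S hQ ▷ Over.mk str).left = Spec.map (trMk A ε 1) ≫ (specMA str N).hom
  rw [specMA_whiskerRight, Category.assoc, Groth.SpecFerrand.Magnet.specMA_faceWhisker str hQ,
    ← Spec.map_comp_assoc, ← Spec.map_comp_assoc]
  exact congrArg (fun q => Spec.map q ≫ (specMA str N).hom) (trMk_one_face A hQ ε hε)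

theorem sqZero_trNext {k : ℕ} (hk : 1 ≤ k) : Groth.Reductive.MTInt.SqZero (trNext N str ε k) :=
  Groth.MagnetSmooth.sqZero_of_chart (Iso.refl (Spec (trR A ε (k + 1)))) (Iso.refl (Spec (trR A ε k))) (trStep A ε k)
    ((Category.id_comp _).trans (Category.comp_id _).symm) (trStep_surjective A ε k) (trStep_ker_sq A ε hk)

set_option maxHeartbeats 1000000 in
theorem exists_next [Etale f.left] (hf : MonAct.IsEquivariant aU aX f) (x' : spMA str N ⟶ X)
    (hx : MonAct.IsEquivariant ((subAct S M N).prod (MonAct.trivial (AMonS S M) (Over.mk str))) aX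
        ((specMAIso str N).inv ≫ x')) {k : ℕ} (hk : 1 ≤ k) (ψ : Over.mk (trStr N str ε k) ⟶ U)
    (hψ : EqK N str aU ε k ψ) (hψf : ψ ≫ f = trIncl N str ε k ≫ x') :
    ∃ ψ' : Over.mk (trStr N str ε (k + 1)) ⟶ U, EqK N str aU ε (k + 1) ψ' ∧
      ψ' ≫ f = trIncl N str ε (k + 1) ≫ x' ∧ trNext N str ε k ≫ ψ' = ψ := by
  haveI : IsAffine (Over.mk (trStr N str ε k) : Over S).left := inferInstanceAs (IsAffine (Spec _))
  haveI : IsAffine (Over.mk (trStr N str ε (k + 1)) : Over S).left := inferInstanceAs (IsAffine (Spec _))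
  obtain ⟨ψ', h1, h2⟩ := Groth.MagnetSmooth.exists_lift_over f (sqZero_trNext str ε hk) ψ
    (trIncl N str ε (k + 1) ≫ x') (by rw [← Category.assoc, trNext_trIncl, hψf])
  refine ⟨ψ', ?_, h2, h1⟩
  subst h1
  let G := maBase (trStep A ε k) M
  haveI : IsClosedImmersion (Spec.map G) :=
    IsClosedImmersion.spec_of_surjective G (mapRingHom_surjective _ (trStep_surjective A ε k) _)
  unfold EqK
  refine FormallyUnramified.hom_ext (Spec.map G)
    (isNilpotent_ker_specMap G (mapRingHom_ker_sq _ (trStep_ker_sq A ε hk) _)) f.left ?_ ?_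
  · unfold EqK at hψ
    rw [whiskerLeft_comp, Category.assoc, Over.comp_left, ← Category.assoc,
      specMA_whiskerLeft' (trStr N str ε (k + 1)) (trStr N str ε k) (trStep A ε k) (trNext N str ε k) rfl,
      Category.assoc, Over.comp_left] at hψ
    simp only [G, Over.comp_left, Category.assoc] at hψ ⊢
    rw [hψ, ← Spec.map_comp_assoc, ← trStep_trCo, Spec.map_comp_assoc]
    rfl
  · have hx' := eqK_trIncl N str aX ε hx (k + 1)
    rw [← h2] at hx'
    unfold EqK at hx'
    rw [Category.assoc, Category.assoc, ← Over.comp_left, ← Over.comp_left, Category.assoc]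
    unfold MonAct.IsEquivariant at hf
    rw [hf, ← whiskerLeft_comp_assoc]
    exact hx'

variable (aU)

/-- A compatible system of truncated points. -/
structure TrSys (x' : spMA str N ⟶ X) (f : U ⟶ X) (y' : spMA str N ⟶ U) where
  /-- the truncations -/
  ψ : ∀ k, Over.mk (trStr N str ε (k + 1)) ⟶ U
  eqv : ∀ k, EqK N str aU ε (k + 1) (ψ k)
  comp_f : ∀ k, ψ k ≫ f = trIncl N str ε (k + 1) ≫ x'
  compat : ∀ k, trNext N str ε (k + 1) ≫ ψ (k + 1) = ψ k
  start : ψ 0 = trIncl N str ε 1 ≫ y'

variable {aU}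

theorem exists_trSys [Etale f.left] (hf : MonAct.IsEquivariant aU aX f) (x' : spMA str N ⟶ X)
    (hx : MonAct.IsEquivariant ((subAct S M N).prod (MonAct.trivial (AMonS S M) (Over.mk str))) aX
        ((specMAIso str N).inv ≫ x')) (y' : spMA str N ⟶ U)
    (hy : MonAct.IsEquivariant ((subAct S M N).prod (MonAct.trivial (AMonS S M) (Over.mk str))) aU
        ((specMAIso str N).inv ≫ y'))
    (h : trIncl N str ε 1 ≫ y' ≫ f = trIncl N str ε 1 ≫ x') : Nonempty (TrSys str aU ε x' f y') := by
  let St := fun k => {ψ : Over.mk (trStr N str ε (k + 1)) ⟶ U //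
    EqK N str aU ε (k + 1) ψ ∧ ψ ≫ f = trIncl N str ε (k + 1) ≫ x'}
  let next : ∀ k (p : St k), {q : St (k + 1) // trNext N str ε (k + 1) ≫ q.1 = p.1} := fun k p =>
    have e := exists_next str ε hf x' hx (Nat.le_add_left 1 k) p.1 p.2.1 p.2.2
    ⟨⟨e.choose, e.choose_spec.1, e.choose_spec.2.1⟩, e.choose_spec.2.2⟩
  let sys : ∀ k, St k := Nat.rec
    ⟨trIncl N str ε 1 ≫ y', eqK_trIncl N str aU ε hy 1, by rw [Category.assoc]; exact h⟩
    fun k p => (next k p).1
  exact ⟨⟨fun k => (sys k).1, fun k => (sys k).2.1, fun k => (sys k).2.2, fun k => (next k (sys k)).2, rfl⟩⟩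

set_option maxHeartbeats 1000000 in
theorem exists_limit {x' : spMA str N ⟶ X} {y' : spMA str N ⟶ U} (s : TrSys str aU ε x' f y') :
    ∃ y : spMA str N ⟶ U, MonAct.IsEquivariant ((subAct S M N).prod (MonAct.trivial (AMonS S M) (Over.mk str))) aU
        ((specMAIso str N).inv ≫ y) ∧ ∀ k, trIncl N str ε (k + 1) ≫ y = s.ψ k := by
  have hex := fun k => exists_gHom str U (s.ψ k).left (maConst A N ≫ trMk A ε (k + 1)) (by
    rw [Over.w (s.ψ k), Spec.map_comp_assoc]
    rfl)
  choose τ hτc hτ using hex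
  have hcomp : ∀ k, τ (k + 1) ≫ trStep A ε (k + 1) = τ k := fun k => by
    refine gHom_ext str U ?_ ?_
    · rw [reassoc_of% (hτc (k + 1)), hτc, trMk_trStep]
    · rw [Spec.map_comp_assoc, hτ, hτ]
      exact congrArg (fun z => z.left) (s.compat k)
  have heq : ∀ k, gDelta str aU ≫ maBase (τ k) M = τ k ≫ trCo A ε N.subtype (k + 1) := fun k =>
    (eqK_iff_ring N str aU ε (τ k) (hτc k) (hτ k)).1 (s.eqv k)
  let τ' : ∀ k, gB str U ⟶ trR A ε k := fun k => τ k ≫ trStep A ε k
  have hτ' : ∀ k, τ' (k + 1) = τ k := hcomp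
  have hglue : ∀ b : gB str U, ∃ z : MA A N, ∀ k, (trMk A ε k).hom z = (τ' k).hom b := by
    intro b
    classical
    refine exists_of_trunc (fun k => (τ' k).hom b) (fun k => ?_)
      {n : Multiplicative N | Multiplicative.ofAdd (n.toAdd : M) ∈ ((gDelta str aU).hom b).coeff.support}
      (Set.Finite.preimage (fun n _ m _ e => Multiplicative.toAdd.injective
        (Subtype.val_injective (Multiplicative.ofAdd.injective e))) (Finset.finite_toSet _)) fun k z hz n hn hk => ?_
    · rw [hτ' k]
      rfl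
    · obtain ⟨k, rfl⟩ : ∃ l, k = l + 1 := ⟨k - 1, by omega⟩
      rw [hτ'] at hz
      have h1 := congrArg (fun φ : gB str U ⟶ MA (trR A ε (k + 1)) M =>
        (φ.hom b).coeff (Multiplicative.ofAdd (N.subtype n.toAdd))) (heq k)
      simp only [CommRingCat.hom_comp, RingHom.comp_apply, maBase, CommRingCat.hom_ofHom,
        MonoidAlgebra.coeff_mapRingHom] at h1
      rw [show ((gDelta str aU).hom b).coeff (Multiplicative.ofAdd (N.subtype n.toAdd)) = 0 from
        Finsupp.notMem_support_iff.mp hn, map_zero] at h1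
      have h2 : ((trCo A ε N.subtype (k + 1)).hom ((τ k).hom b)).coeff (Multiplicative.ofAdd (N.subtype n.toAdd)) =
          (trMk A ε (k + 1)).hom (MonoidAlgebra.single n (z.coeff n)) := by
        rw [← hz, ← maCo_coeff A (f := N.subtype) Subtype.val_injective z n]
        exact MonoidAlgebra.coeff_mapRingHom _ _ _
      have h3 := mem_trI.1 ((trMk_eq_zero A ε).1 (h1.trans h2).symm) n hk
      simpa using h3
  choose τN hτN using hglue
  have hext : ∀ {z z' : MA A N}, (∀ k, (trMk A ε k).hom z = (trMk A ε k).hom z') → z = z' := fun h =>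
    sub_eq_zero.1 (eq_zero_of_forall_mem fun k => by rw [← trMk_eq_zero, map_sub, h k, sub_self])
  let τA : gB str U ⟶ MA A N := CommRingCat.ofHom
    { toFun := τN
      map_one' := hext fun k => by rw [hτN, map_one, map_one]
      map_mul' := fun a b => hext fun k => by rw [hτN, map_mul, map_mul, hτN, hτN]
      map_zero' := hext fun k => by rw [hτN, map_zero, map_zero]
      map_add' := fun a b => hext fun k => by rw [hτN, map_add, map_add, hτN, hτN] }
  have hA : ∀ k, τA ≫ trMk A ε (k + 1) = τ k := fun k =>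
    CommRingCat.hom_ext (RingHom.ext fun b => (hτN b (k + 1)).trans (congrArg (fun φ => φ.hom b) (hτ' k)))
  have hγ : gGam str U ≫ τA = maConst A N := CommRingCat.hom_ext (RingHom.ext fun r => hext fun k => by
    cases k with
    | zero =>
      rw [← trMk_trStep A ε 0]
      exact congrArg (trStep A ε 0).hom (congr($((congrArg (gGam str U ≫ ·) (hA 0)).trans (hτc 0)) r))
    | succ k => exact congr($((congrArg (gGam str U ≫ ·) (hA k)).trans (hτc k)) r))
  let y : spMA str N ⟶ U := Over.homMk (Spec.map τA ≫ (gX0 str U).left) (by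
    rw [Category.assoc, Over.w (gX0 str U)]
    show Spec.map τA ≫ Spec.map (gGam str U) ≫ str = _
    rw [← Spec.map_comp_assoc, hγ]
    rfl)
  refine ⟨y, isEquivariant_of_ring N str aU τA rfl ?_, fun k => Over.OverMorphism.ext ?_⟩
  · refine CommRingCat.hom_ext (RingHom.ext fun b => eq_of_forall_maBase A ε fun k => ?_)
    have key : ∀ k, (maBase (trMk A ε (k + 1)) M).hom ((maBase τA M).hom ((gDelta str aU).hom b)) =
        (maBase (trMk A ε (k + 1)) M).hom ((maCo A N.subtype).hom (τA.hom b)) := fun k => by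
      have h1 := congr($(heq k) b)
      rw [← hA k] at h1
      refine Eq.trans ?_ (h1.trans ?_)
      · refine MonoidAlgebra.ext (Finsupp.ext fun m => ?_)
        simp [maBase]
      · rfl
    cases k with
    | zero =>
      refine MonoidAlgebra.ext (Finsupp.ext fun m => ?_)
      have h := congrArg (fun w : MA (trR A ε 1) M => (trStep A ε 0).hom (w.coeff m)) (key 0)
      simp only [maBase, CommRingCat.hom_ofHom, MonoidAlgebra.coeff_mapRingHom] at h ⊢
      exact h
    | succ k => exact key k
  · show Spec.map (trMk A ε (k + 1)) ≫ Spec.map τA ≫ (gX0 str U).left = (s.ψ k).left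
    rw [← Spec.map_comp_assoc, hA, hτ]

/-- Two maps to a scheme affine over the base agreeing on all truncations agree. -/
theorem eq_of_trunc {y y' : spMA str N ⟶ U} (h : ∀ k, trIncl N str ε k ≫ y = trIncl N str ε k ≫ y') : y = y' := by
  obtain ⟨τ, hτc, hτ⟩ := exists_gHom str U y.left (maConst A N) (Over.w y)
  obtain ⟨τ', hτc', hτ'⟩ := exists_gHom str U y'.left (maConst A N) (Over.w y')
  have e : τ = τ' := CommRingCat.hom_ext (RingHom.ext fun b => sub_eq_zero.1 (eq_zero_of_forall_mem fun k => by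
    have hk : τ ≫ trMk A ε k = τ' ≫ trMk A ε k := by
      refine gHom_ext str U (by rw [reassoc_of% hτc, reassoc_of% hτc']) ?_
      rw [Spec.map_comp_assoc, Spec.map_comp_assoc, hτ, hτ']
      exact congrArg (fun z => z.left) (h k)
    rw [← trMk_eq_zero, map_sub, sub_eq_zero]
    exact congr($hk b)))
  exact Over.OverMorphism.ext (by rw [← hτ, ← hτ', e])

include hε in
/-- Truncations of equivariant lifts are determined by the face. -/
theorem trunc_unique [FormallyUnramified f.left] {y y' : spMA str N ⟶ U}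
    (hQy : (AMonS.faceMap S hQ ▷ Over.mk str) ≫ (specMAIso str N).inv ≫ y =
      (AMonS.faceMap S hQ ▷ Over.mk str) ≫ (specMAIso str N).inv ≫ y') (hf : y ≫ f = y' ≫ f) : y = y' := by
  have h1 : trIncl N str ε 1 ≫ y = trIncl N str ε 1 ≫ y' := by
    have e := trIncl_one_retr hQ str ε hε
    have key : ∀ z : spMA str N ⟶ U, trIncl N str ε 1 ≫ retr hQ str ≫
        (AMonS.faceMap S hQ ▷ Over.mk str) ≫ (specMAIso str N).inv ≫ z = trIncl N str ε 1 ≫ z := fun z => by
      refine ((Category.assoc _ _ _).trans (congrArg (trIncl N str ε 1 ≫ ·) (Category.assoc _ _ _))).symm.trans ?_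
      rw [e, Category.assoc, Iso.hom_inv_id_assoc]
    rw [← key y, hQy, key]
  refine eq_of_trunc str ε fun k => ?_
  cases k with
  | zero => rw [← trNext_trIncl, Category.assoc, Category.assoc, h1]
  | succ k =>
    induction k with
    | zero => exact h1
    | succ k ih =>
      haveI : IsClosedImmersion (Spec.map (trStep A ε (k + 1))) :=
        IsClosedImmersion.spec_of_surjective _ (trStep_surjective A ε _)
      refine Over.OverMorphism.ext (FormallyUnramified.hom_ext (Spec.map (trStep A ε (k + 1)))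
        (isNilpotent_ker_specMap _ (trStep_ker_sq A ε (Nat.le_add_left 1 k))) f.left ?_ ?_)
      · rw [← trNext_trIncl, Category.assoc, Category.assoc] at ih
        exact congrArg (fun z => z.left) ih
      · exact congrArg (fun z : spMA str N ⟶ X => (trIncl N str ε (k + 1 + 1) ≫ z).left) hf

end Groth.MagnetEtale
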