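import Groth.Agent.MiscGeom.MagnetRep
import Groth.Prelude.Def_Magnet4
import Mathlib.Algebra.MonoidAlgebra.Ideal

/-!
# Truncations of a monoid algebra along a height
-/

set_option autoImplicit false
universe u

open CategoryTheory AlgebraicGeometry
open Magnet Groth.MiscGeom.Mag

noncomputable section

namespace Groth.MagnetEtale

variable (A : CommRingCat.{u}) {N : Type} [AddCommMonoid N] (ε : N →+ ℕ)

/-- the monomials of height at least `k` -/
def trI (k : ℕ) : Ideal (MA A N) :=
  Ideal.span (MonoidAlgebra.of A (Multiplicative N) '' {n | k ≤ ε n.toAdd})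

variable {A ε}

theorem mem_trI {k : ℕ} {z : MA A N} :
    z ∈ trI A ε k ↔ ∀ n : Multiplicative N, ε n.toAdd < k → z.coeff n = 0 := by
  rw [trI, MonoidAlgebra.mem_ideal_span_of_image]
  constructor
  · intro h n hn
    by_contra hc
    obtain ⟨m', hm', d, rfl⟩ := h n (Finsupp.mem_support_iff.mpr hc)
    have hm'' : k ≤ ε m'.toAdd := hm'
    rw [toAdd_mul, map_add] at hn
    omega
  · intro h n hn
    refine ⟨n, ?_, 1, (_root_.one_mul n).symm⟩
    by_contra hk
    exact Finsupp.mem_support_iff.mp hn (h n (not_le.mp hk))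

theorem trI_anti {k l : ℕ} (h : k ≤ l) : trI A ε l ≤ trI A ε k := fun z hz =>
  mem_trI.2 fun n hn => mem_trI.1 hz n (hn.trans_le h)

theorem trI_mul {k l : ℕ} : trI A ε k * trI A ε l ≤ trI A ε (k + l) := by
  rw [trI, trI, Ideal.span_mul_span', Ideal.span_le]
  rintro _ ⟨_, ⟨m, hm, rfl⟩, _, ⟨n, hn, rfl⟩, rfl⟩
  refine Ideal.subset_span ⟨m * n, ?_, map_mul _ _ _⟩
  show k + l ≤ ε (m * n).toAdd
  rw [toAdd_mul, map_add]
  exact add_le_add hm hn

theorem eq_zero_of_forall_mem {z : MA A N} (h : ∀ k, z ∈ trI A ε k) : z = 0 :=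
  MonoidAlgebra.ext (Finsupp.ext fun n => by simpa using mem_trI.1 (h (ε n.toAdd + 1)) n (Nat.lt_succ_self _))

variable (A ε)

/-- the truncation -/
abbrev trR (k : ℕ) : CommRingCat.{u} := CommRingCat.of (MA A N ⧸ trI A ε k)

/-- projection to the truncation -/
def trMk (k : ℕ) : MA A N ⟶ trR A ε k := CommRingCat.ofHom (Ideal.Quotient.mk (trI A ε k))

/-- transition -/
def trStep (k : ℕ) : trR A ε (k + 1) ⟶ trR A ε k :=
  CommRingCat.ofHom (Ideal.Quotient.factor (trI_anti (Nat.le_succ k)))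

theorem trMk_trStep (k : ℕ) : trMk A ε (k + 1) ≫ trStep A ε k = trMk A ε k := rfl

theorem trMk_surjective (k : ℕ) : Function.Surjective (trMk A ε k).hom := Ideal.Quotient.mk_surjective

theorem trMk_eq_zero {k : ℕ} {z : MA A N} : (trMk A ε k).hom z = 0 ↔ z ∈ trI A ε k := Ideal.Quotient.eq_zero_iff_mem

theorem trStep_surjective (k : ℕ) : Function.Surjective (trStep A ε k).hom := fun r => by
  obtain ⟨z, rfl⟩ := trMk_surjective A ε k r
  exact ⟨(trMk A ε (k + 1)).hom z, rfl⟩

theorem trStep_ker_sq {k : ℕ} (hk : 1 ≤ k) : RingHom.ker (trStep A ε k).hom ^ 2 = ⊥ := by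
  rw [eq_bot_iff, pow_two, Ideal.mul_le]
  intro x hx y hy
  obtain ⟨x, rfl⟩ := trMk_surjective A ε (k + 1) x
  obtain ⟨y, rfl⟩ := trMk_surjective A ε (k + 1) y
  rw [Ideal.mem_bot, ← map_mul, trMk_eq_zero]
  exact trI_anti (by omega) (trI_mul (Ideal.mul_mem_mul ((trMk_eq_zero A ε).1 hx) ((trMk_eq_zero A ε).1 hy)))

variable {A ε}

/-- Truncations with uniformly bounded support come from the monoid algebra. -/
theorem exists_of_trunc (r : ∀ k, trR A ε k) (hr : ∀ k, (trStep A ε k).hom (r (k + 1)) = r k)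
    (T : Set (Multiplicative N)) (hT : T.Finite)
    (hs : ∀ k (z : MA A N), (trMk A ε k).hom z = r k → ∀ n ∉ T, ε n.toAdd < k → z.coeff n = 0) :
    ∃ z, ∀ k, (trMk A ε k).hom z = r k := by
  classical
  choose z hz using fun k => trMk_surjective A ε k (r k)
  have hc : ∀ k l, k ≤ l → (trMk A ε k).hom (z l) = r k := by
    intro k l h
    induction l, h using Nat.le_induction with
    | base => exact hz k
    | succ l hl ih =>
      rw [← ih, ← sub_eq_zero, ← map_sub, trMk_eq_zero]
      refine trI_anti hl ?_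
      rw [← trMk_eq_zero, map_sub, sub_eq_zero, hz l, ← hr l, ← hz (l + 1)]
      rfl
  let K := hT.toFinset.sup (fun n => ε n.toAdd) + 1
  refine ⟨MonoidAlgebra.ofCoeff ((z K).coeff.filter (· ∈ T)), fun k => ?_⟩
  rw [← hz k, ← sub_eq_zero, ← map_sub, trMk_eq_zero, mem_trI]
  intro n hn
  rw [MonoidAlgebra.coeff_sub, Finsupp.sub_apply, sub_eq_zero]
  show ((z K).coeff.filter (· ∈ T)) n = _
  by_cases hnT : n ∈ T
  · rw [Finsupp.filter_apply_pos _ _ hnT]
    have hK : ε n.toAdd < K := by
      have : ε n.toAdd ≤ hT.toFinset.sup (fun n => ε n.toAdd) :=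
        Finset.le_sup (f := fun n : Multiplicative N => ε n.toAdd) (hT.mem_toFinset.mpr hnT)
      omega
    have h1 := hc (min k K) k (min_le_left _ _)
    have h2 := hc (min k K) K (min_le_right _ _)
    rw [← h1, ← sub_eq_zero, ← map_sub, trMk_eq_zero, mem_trI] at h2
    have h3 := h2 n (lt_min hn hK)
    rwa [MonoidAlgebra.coeff_sub, Finsupp.sub_apply, sub_eq_zero] at h3
  · rw [Finsupp.filter_apply_neg _ _ hnT, hs k (z k) (hz k) n hnT hn]

variable (A ε)

/-! ### the coaction -/

variable {M : Type} [AddCommMonoid M] (f : N →+ M)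

/-- `A[N] → A[N][M]`, `n ↦ n ⊗ f n` -/
def maCo : MA A N ⟶ MA (MA A N) M :=
  CommRingCat.ofHom (MonoidAlgebra.lift A (MA (MA A N) M) (Multiplicative N)
    { toFun := fun n => MonoidAlgebra.single (Multiplicative.ofAdd (f n.toAdd)) (MonoidAlgebra.single n 1)
      map_one' := by
        show MonoidAlgebra.single (Multiplicative.ofAdd (f (1 : Multiplicative N).toAdd)) _ = _
        rw [toAdd_one, map_zero]
        rfl
      map_mul' := fun m n => by
        rw [MonoidAlgebra.single_mul_single, MonoidAlgebra.single_mul_single, _root_.one_mul, toAdd_mul, map_add,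
          ofAdd_add] }).toRingHom

theorem maCo_single (n : Multiplicative N) (r : A) :
    (maCo A f).hom (MonoidAlgebra.single n r) =
      MonoidAlgebra.single (Multiplicative.ofAdd (f n.toAdd)) (MonoidAlgebra.single n r) := by
  show MonoidAlgebra.lift A (MA (MA A N) M) (Multiplicative N) _ (MonoidAlgebra.single n r) = _
  rw [MonoidAlgebra.lift_single]
  simp [Algebra.smul_def, MonoidAlgebra.single_mul_single]

variable {f} in
theorem maCo_coeff (hf : Function.Injective f) (z : MA A N) (n : Multiplicative N) :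
    ((maCo A f).hom z).coeff (Multiplicative.ofAdd (f n.toAdd)) = MonoidAlgebra.single n (z.coeff n) := by
  classical
  induction z using MonoidAlgebra.induction_linear with
  | zero => simp
  | add z z' hz hz' => simp [map_add, hz, hz', MonoidAlgebra.single_add]
  | single m c =>
    rw [maCo_single]
    by_cases hn : m = n
    · subst hn; simp
    · have : Multiplicative.ofAdd (f m.toAdd) ≠ Multiplicative.ofAdd (f n.toAdd) := fun h =>
        hn (Multiplicative.toAdd.injective (hf (Multiplicative.ofAdd.injective h)))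
      simp [Finsupp.single_eq_of_ne (Ne.symm this), Finsupp.single_eq_of_ne (Ne.symm hn)]

theorem maConst_maCo : maConst A N ≫ maCo A f = maConst A N ≫ maConst (MA A N) M :=
  CommRingCat.hom_ext (RingHom.ext fun r => (maCo_single A f 1 r).trans (by simp [maConst]))

theorem trI_le_ker_maCo (k : ℕ) : trI A ε k ≤ RingHom.ker (maCo A f ≫ maBase (trMk A ε k) M).hom := by
  rw [trI, Ideal.span_le]
  rintro _ ⟨n, hn, rfl⟩
  show (maBase (trMk A ε k) M).hom ((maCo A f).hom (MonoidAlgebra.single n 1)) = 0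
  rw [maCo_single]
  show MonoidAlgebra.mapRingHom _ _ (MonoidAlgebra.single _ _) = 0
  have h0 : (trMk A ε k).hom (MonoidAlgebra.single n 1) = 0 :=
    (trMk_eq_zero A ε).2 (Ideal.subset_span ⟨n, hn, rfl⟩)
  rw [MonoidAlgebra.mapRingHom_single, h0, MonoidAlgebra.single_zero]

/-- the coaction on a truncation -/
def trCo (k : ℕ) : trR A ε k ⟶ MA (trR A ε k) M :=
  CommRingCat.ofHom (Ideal.Quotient.lift (trI A ε k) (maCo A f ≫ maBase (trMk A ε k) M).hom
    fun z hz => trI_le_ker_maCo A ε f k hz)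

theorem trMk_trCo (k : ℕ) : trMk A ε k ≫ trCo A ε f k = maCo A f ≫ maBase (trMk A ε k) M := rfl

theorem trStep_trCo (k : ℕ) :
    trStep A ε k ≫ trCo A ε f k = trCo A ε f (k + 1) ≫ maBase (trStep A ε k) M := by
  refine CommRingCat.hom_ext (RingHom.ext fun r => ?_)
  obtain ⟨z, rfl⟩ := trMk_surjective A ε (k + 1) r
  show (maBase (trMk A ε k) M).hom ((maCo A f).hom z) =
    (maBase (trStep A ε k) M).hom ((maBase (trMk A ε (k + 1)) M).hom ((maCo A f).hom z))
  refine MonoidAlgebra.ext (Finsupp.ext fun m => ?_)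
  simp only [maBase, CommRingCat.hom_ofHom, MonoidAlgebra.coeff_mapRingHom]
  rfl

theorem eq_of_forall_maBase {x y : MA (MA A N) M}
    (h : ∀ k, (maBase (trMk A ε k) M).hom x = (maBase (trMk A ε k) M).hom y) : x = y := by
  refine MonoidAlgebra.ext (Finsupp.ext fun m => sub_eq_zero.1 (eq_zero_of_forall_mem (ε := ε) fun k => ?_))
  rw [← trMk_eq_zero, map_sub, sub_eq_zero, ← MonoidAlgebra.coeff_mapRingHom, ← MonoidAlgebra.coeff_mapRingHom]
  exact congrArg (fun w : MA (trR A ε k) M => w.coeff m) (h k)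

/-! ### the first truncation is the face -/

theorem trMk_one_face {M : Type} [AddCommMonoid M] {P F : AddSubmonoid M} (hF : IsFace P F) (ε : P →+ ℕ)
    (hε : ∀ x : P, ε x = 0 ↔ (x : M) ∈ F) :
    CommRingCat.ofHom (faceAlgHom A hF).toRingHom ≫ maMap A (AddSubmonoid.inclusion hF.le) ≫ trMk A ε 1 =
      trMk A ε 1 := by
  refine CommRingCat.hom_ext (MonoidAlgebra.ringHom_ext (fun r => ?_) fun m => ?_)
  · have h : (faceAlgHom A hF) (MonoidAlgebra.single 1 r) = MonoidAlgebra.single 1 r := by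
      rw [show (MonoidAlgebra.single (1 : Multiplicative ↥P) r) = algebraMap A _ r from rfl, AlgHom.commutes]
      rfl
    show (trMk A ε 1).hom ((maMap A _).hom (faceAlgHom A hF (MonoidAlgebra.single 1 r))) = _
    rw [h]
    simp [maMap]
  · obtain ⟨m, rfl⟩ : ∃ m', Multiplicative.ofAdd m' = m := ⟨m.toAdd, rfl⟩
    show (trMk A ε 1).hom ((maMap A _).hom (faceAlgHom A hF (MonoidAlgebra.single _ 1))) = _
    by_cases hm : (m : M) ∈ F
    · rw [faceAlgHom_single_of_mem A hF m hm]
      congr 1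
      exact MonoidAlgebra.mapDomain_single ..
    · rw [faceAlgHom_single_of_not_mem A hF m hm, map_zero, map_zero]
      refine ((trMk_eq_zero A ε).2 (Ideal.subset_span ⟨Multiplicative.ofAdd m, ?_, rfl⟩)).symm
      exact Nat.one_le_iff_ne_zero.2 fun h => hm ((hε m).1 h)

end Groth.MagnetEtale
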